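import Cfsg.Agent.Lib.Small.Unitary.Eichler

/-!
Centres of transvection groups inside a subgroup of `SU_n(q)`: secants, common neighbours, and the
connectedness of the centres of a group containing a regular unipotent element.
-/

set_option autoImplicit false
set_option linter.unusedSectionVars false

namespace Cfsg.Agent.Small.Generation.SUThree

open Matrix Cfsg.Agent.Small.Unitary

variable {F : Type*} [Field F] [Fintype F] [StarRing F] {n q : ℕ}

theorem herm_comm_zero {a b : Fin n → F} (h : herm a b = 0) : herm b a = 0 := by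
  rw [← star_herm, h, star_zero]

theorem herm_comm_ne {a b : Fin n → F} (h : herm a b ≠ 0) : herm b a ≠ 0 :=
  fun h' => h (herm_comm_zero h')

/-- `F_q`-independence. -/
def Indep (a b : F) : Prop := star a * b ≠ a * star b

theorem Indep.left_ne {a b : F} (h : Indep a b) : a ≠ 0 := fun h0 => h (by simp [h0])

theorem Indep.right_ne {a b : F} (h : Indep a b) : b ≠ 0 := fun h0 => h (by simp [h0])

theorem Indep.symm {a b : F} (h : Indep a b) : Indep b a := fun h' => h (by linear_combination -h')

/-- Prescribed traces against two independent values. -/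
theorem Indep.solve {a b : F} (h : Indep a b) {R : F} (hR : star R = R) :
    ∃ k : F, k * a + star (k * a) = 0 ∧ k * b + star (k * b) = R := by
  have hD : a * star b - star a * b ≠ 0 := sub_ne_zero.mpr (Ne.symm h)
  set k : F := -(R * star a) / (a * star b - star a * b) with hk
  have hsk : star k = (R * a) / (a * star b - star a * b) := by
    rw [hk, star_div₀, star_neg, star_mul', star_sub, star_mul', star_mul', star_star, star_star, hR,
      show star a * b - a * star b = -(a * star b - star a * b) by ring, neg_div_neg_eq]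
  refine ⟨k, ?_, ?_⟩ <;> rw [star_mul', hsk, hk] <;> field_simp <;> ring

variable (hstar : ∀ x : F, star x = x ^ q)

/-- `c` is isotropic and all transvections along `c` are in `G`. -/
def Ctr (G : Subgroup (Cfsg.SU n F q)) (c : Fin n → F) : Prop :=
  herm c c = 0 ∧ ∀ t : F, star t = -t → eich hstar c 0 t ∈ G

variable {hstar} {G : Subgroup (Cfsg.SU n F q)}

theorem ctr_zero : Ctr hstar G 0 := by
  refine ⟨herm_zero_left 0, fun t ht => ?_⟩
  have : eich hstar (0 : Fin n → F) 0 t = 1 := Unitary.eq_of_act fun x => by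
    rw [act_eich_zero hstar (herm_zero_left 0) ht, act_one, smul_zero, add_zero]
  rw [this]
  exact one_mem G

theorem Ctr.act {c : Fin n → F} (hc : Ctr hstar G c) {g : Cfsg.SU n F q} (hg : g ∈ G) :
    Ctr hstar G (Unitary.act g c) := by
  refine ⟨by rw [herm_act hstar]; exact hc.1, fun t ht => ?_⟩
  have h := mul_mem (mul_mem hg (hc.2 t ht)) (inv_mem hg)
  rwa [eich_conj hstar g ((EOk_zero_iff hc.1).mpr ht),
    show Unitary.act g (0 : Fin n → F) = 0 from Matrix.mulVec_zero _] at h

theorem Ctr.smul {c : Fin n → F} (hc : Ctr hstar G c) (k : F) : Ctr hstar G (k • c) := by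
  rcases eq_or_ne k 0 with rfl | hk
  · rw [zero_smul]; exact ctr_zero
  have hiso : herm (k • c) (k • c) = 0 := by
    rw [herm_smul_left, herm_smul_right, hc.1, mul_zero, mul_zero]
  refine ⟨hiso, fun t ht => ?_⟩
  rw [eich_smul hstar ((EOk_zero_iff hiso).mpr ht) hk, smul_zero]
  refine hc.2 _ ?_
  rw [star_mul', star_mul', star_star, ht]
  ring

/-- The secant through two centres. -/
theorem Ctr.sec {c d : Fin n → F} (hc : Ctr hstar G c) (hd : Ctr hstar G d) (h : herm c d ≠ 0)
    {k : F} (hk : k * herm c d + star (k * herm c d) = 0) : Ctr hstar G (c + k • d) := by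
  have hne : herm d c ≠ 0 := herm_comm_ne h
  have ht : star (k / herm d c) = -(k / herm d c) := by
    rw [star_div₀, star_herm, ← neg_div, div_eq_div_iff h hne]
    rw [star_mul', star_herm] at hk
    linear_combination hk
  have h1 := hc.act (hd.2 (k / herm d c) ht)
  rwa [act_eich_zero hstar hd.1 ht, div_mul_cancel₀ _ hne] at h1

/-- A centre on a secant given by its isotropy. -/
theorem Ctr.sec' {c d : Fin n → F} (hc : Ctr hstar G c) (hd : Ctr hstar G d) (h : herm c d ≠ 0)
    {k : F} (hk : herm (c + k • d) (c + k • d) = 0) : Ctr hstar G (c + k • d) := by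
  refine hc.sec hd h ?_
  rw [herm_add_left, herm_add_right, herm_add_right, herm_smul_left, herm_smul_left,
    herm_smul_right, herm_smul_right, hc.1, hd.1] at hk
  rw [star_mul', star_herm]
  linear_combination hk

/-- Two centres have a common neighbour. -/
def Nb (hstar : ∀ x : F, star x = x ^ q) (G : Subgroup (Cfsg.SU n F q)) (a b : Fin n → F) : Prop :=
  ∃ e, Ctr hstar G e ∧ herm e a ≠ 0 ∧ herm e b ≠ 0

theorem Nb.symm {a b : Fin n → F} (h : Nb hstar G a b) : Nb hstar G b a := by
  obtain ⟨e, he, h1, h2⟩ := h; exact ⟨e, he, h2, h1⟩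

theorem exists_skew_mul (hstar : ∀ x : F, star x = x ^ q) (hF : Fintype.card F = q ^ 2) {a : F} (ha : a ≠ 0) :
    ∃ k : F, k ≠ 0 ∧ k * a + star (k * a) = 0 := by
  obtain ⟨θ, hθ0, hθ⟩ := exists_skew hstar hF
  exact ⟨θ / a, div_ne_zero hθ0 ha, by rw [div_mul_cancel₀ _ ha, hθ, add_neg_cancel]⟩

theorem Nb.step (hF : Fintype.card F = q ^ 2) {a b c d : Fin n → F} (hb : Ctr hstar G b)
    (hc : Ctr hstar G c) (h1 : herm a b ≠ 0) (h2 : herm b c ≠ 0) (h3 : herm c d ≠ 0) :
    Nb hstar G a d := by
  by_cases hbd : herm b d = 0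
  · by_cases hca : herm c a = 0
    · obtain ⟨k, hk0, hk⟩ := exists_skew_mul hstar hF h2
      refine ⟨b + k • c, hb.sec hc h2 hk, ?_, ?_⟩
      · rw [herm_add_left, herm_smul_left, hca, mul_zero, add_zero]; exact herm_comm_ne h1
      · rw [herm_add_left, herm_smul_left, hbd, zero_add]
        exact mul_ne_zero (star_ne_zero.mpr hk0) h3
    · exact ⟨c, hc, hca, h3⟩
  · exact ⟨b, hb, herm_comm_ne h1, hbd⟩

/-- The centres of a group containing a regular unipotent element are connected. -/
theorem connected (hF : Fintype.card F = q ^ 2) {u : Cfsg.SU n F q} (huG : u ∈ G)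
    (hnil : IsNilpotent (u.1.1 - 1)) {c₀ : Fin n → F} (hc0 : c₀ ≠ 0) (hfix : act u c₀ = c₀)
    (hfixed : ∀ x, act u x = x → ∃ k : F, x = k • c₀) (hT : Ctr hstar G c₀)
    (hne : ∀ x : Fin n → F, x ≠ 0 → ∃ c, Ctr hstar G c ∧ herm x c ≠ 0) :
    ∀ c d, Ctr hstar G c → Ctr hstar G d → c ≠ 0 → d ≠ 0 → Nb hstar G c d := by
  classical
  obtain ⟨z₀, hz₀, hz₀'⟩ := hne c₀ hc0
  set I := {d : Fin n → F | Ctr hstar G d ∧ Nb hstar G c₀ d} with hI
  set O := {d : Fin n → F | Ctr hstar G d ∧ ¬ Nb hstar G c₀ d} with hO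
  have hIO : ∀ i ∈ I, ∀ o ∈ O, herm i o = 0 := by
    rintro i ⟨hi, e, he, hec, hei⟩ o ⟨ho, hno⟩
    by_contra hio
    exact hno (Nb.step hF he hi (herm_comm_ne hec) hei hio)
  have hperp : ∀ x ∈ Submodule.span F O, ∀ i ∈ I, herm i x = 0 := by
    intro x hx i hi
    induction hx using Submodule.span_induction with
    | mem y hy => exact hIO i hi y hy
    | zero => exact herm_zero_right i
    | add a b _ _ ha hb => rw [herm_add_right, ha, hb, add_zero]
    | smul k a _ ha => rw [herm_smul_right, ha, mul_zero]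
  have hinv : ∀ x ∈ Submodule.span F O, act u x ∈ Submodule.span F O := by
    intro x hx
    induction hx using Submodule.span_induction with
    | mem y hy =>
      refine Submodule.subset_span ⟨hy.1.act huG, fun ⟨e, he, h1, h2⟩ => hy.2 ?_⟩
      refine ⟨act u⁻¹ e, he.act (inv_mem huG), ?_, ?_⟩
      · rw [← herm_act hstar u, act_act_inv, hfix]; exact h1
      · rw [← herm_act hstar u, act_act_inv]; exact h2
    | zero => rw [act, Matrix.mulVec_zero]; exact Submodule.zero_mem _
    | add a b _ _ ha hb => rw [act_add]; exact Submodule.add_mem _ ha hb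
    | smul k a _ ha => rw [act_smul]; exact Submodule.smul_mem _ _ ha
  have hzI : z₀ ∈ I := by
    obtain ⟨k, hk0, hk⟩ := exists_skew_mul hstar hF (herm_comm_ne hz₀')
    refine ⟨hz₀, z₀ + k • c₀, hz₀.sec hT (herm_comm_ne hz₀') hk, ?_, ?_⟩
    · rw [herm_add_left, herm_smul_left, hT.1, mul_zero, add_zero]; exact herm_comm_ne hz₀'
    · rw [herm_add_left, herm_smul_left, hz₀.1, zero_add]
      exact mul_ne_zero (star_ne_zero.mpr hk0) hz₀'
  have hlink : ∀ d, Ctr hstar G d → d ≠ 0 → Nb hstar G c₀ d := by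
    intro d hd hd0
    by_contra hn
    obtain ⟨k, hk⟩ := hnil
    have key : ∀ (k : ℕ) (x : Fin n → F), x ∈ Submodule.span F O → x ≠ 0 →
        (u.1.1 - 1) ^ k *ᵥ x = 0 → ∃ y ∈ Submodule.span F O, y ≠ 0 ∧ act u y = y := by
      intro k
      induction k with
      | zero => intro x _ hx0 hz; rw [pow_zero, Matrix.one_mulVec] at hz; exact absurd hz hx0
      | succ k ih =>
        intro x hx hx0 hz
        by_cases h : act u x - x = 0
        · exact ⟨x, hx, hx0, sub_eq_zero.mp h⟩
        · refine ih _ (Submodule.sub_mem _ (hinv x hx) hx) h ?_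
          rw [show act u x - x = (u.1.1 - 1) *ᵥ x by rw [Matrix.sub_mulVec, Matrix.one_mulVec]; rfl,
            Matrix.mulVec_mulVec, ← pow_succ]
          exact hz
    obtain ⟨y, hy, hy0, hyu⟩ := key k d (Submodule.subset_span (s := O) ⟨hd, hn⟩) hd0
      (by rw [hk, Matrix.zero_mulVec])
    obtain ⟨j, rfl⟩ := hfixed y hyu
    have h1 := hperp _ hy z₀ hzI
    rw [herm_smul_right] at h1
    exact herm_comm_ne hz₀' ((mul_eq_zero.mp h1).resolve_left fun h => hy0 (by rw [h, zero_smul]))
  intro c d hc hd hc' hd'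
  obtain ⟨e, he, he0, hec⟩ := hlink c hc hc'
  obtain ⟨f, hf, hf0, hfd⟩ := hlink d hd hd'
  obtain ⟨g, hg, hgc, hgf⟩ := Nb.step hF (d := f) he hT (herm_comm_ne hec) he0 (herm_comm_ne hf0)
  exact Nb.step hF hg hf (herm_comm_ne hgc) hgf hfd

end Cfsg.Agent.Small.Generation.SUThree
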