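import Cfsg.Agent.Lib.Small.Generation.TwoReg.Main

/-!
Pairs of opposite root elements with real ratio generating `SU_3(q)`, `q ≥ 3`.
-/

set_option autoImplicit false
set_option linter.unusedSectionVars false
set_option linter.unusedSimpArgs false

namespace Cfsg.Agent.Small.Generation.SUThree

open Matrix Cfsg.Agent.Small.Unitary Cfsg.Agent.Small.Generation.TwoReg

variable {F : Type*} [Field F] [Fintype F] [StarRing F] {q : ℕ}

/-- A generating pair with real ratio `z`. -/
def SeedW (hstar : ∀ x : F, star x = x ^ q) (a z R : F) : Prop :=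
  a + star a + 1 = 0 ∧ star z = z ∧ z ≠ 0 ∧ ∃ P : Frame F,
    Subgroup.closure ({eich hstar P.e P.d a, eich hstar P.f (z • P.d) (z * z * a + R - star R)} :
      Set ↥(Cfsg.SU 3 F q)) = ⊤

/-- Parameters of a generating pair with real ratio exist. -/
def Seed (hstar : ∀ x : F, star x = x ^ q) : Prop := ∃ a z R : F, SeedW hstar a z R

theorem seed_of_data {hstar : ∀ x : F, star x = x ^ q} (hF : Fintype.card F = q ^ 2) (hq : q ≠ 2)
    (P : Frame F) {a s z b μ : F} (ha : a + star a + 1 = 0) (hs : s ≠ 0) (hss : star s = s) (r : F)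
    (hz : z = -(star s * star s / s)) (hb : b = star s * s * a + r - star r) (hμ : μ ≠ 0)
    (hgen : Gen (star μ * star μ / μ))
    (hword : b + star b + star z * z = 0 → ∀ G : Subgroup (Cfsg.SU 3 F q),
      eich hstar P.e ((1 : F) • P.d) a ∈ G → eich hstar P.f (z • P.d) b ∈ G →
      ∃ w ∈ G, act w P.e = μ • P.e) : SeedW hstar a z r := by
  have hzs : z = -s := by rw [hz, hss, mul_div_assoc, div_self hs, mul_one]
  have hz0 : z ≠ 0 := by rw [hzs]; exact neg_ne_zero.mpr hs
  have hzr : star z = z := by rw [hzs, star_neg, hss]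
  have hbz : b = z * z * a + r - star r := by rw [hb, hss, hzs]; ring
  refine ⟨ha, hzr, hz0, P, ?_⟩
  rw [← hbz]
  set G := Subgroup.closure ({eich hstar P.e P.d a, eich hstar P.f (z • P.d) b} :
    Set ↥(Cfsg.SU 3 F q))
  have hu : eich hstar P.e P.d a ∈ G := Subgroup.subset_closure (Set.mem_insert _ _)
  have hv : eich hstar P.f (z • P.d) b ∈ G :=
    Subgroup.subset_closure (Set.mem_insert_of_mem _ rfl)
  have hok : b + star b + star z * z = 0 := by
    rw [hbz]
    simp only [star_add, star_sub, star_mul', star_star, hzr]
    linear_combination (z * z) * ha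
  obtain ⟨w, hw, hwe⟩ := hword hok G (by rwa [one_smul]) hv
  refine eq_top_of_word hF hq P ha hu hv ?_ hw hμ hwe hgen
  rw [Frame.e, P.act_lo hstar hok, P.herm_co]
  simp only [star_zero, star_one, zero_mul, one_mul, mul_zero, mul_one, add_zero, zero_add,
    sub_zero]
  intro h
  rw [h, zero_add, star_zero, zero_add] at hok
  exact mul_ne_zero (star_ne_zero.mpr hz0) hz0 hok

/-- The family for `q ∉ {2, 5, 8}`. -/
theorem seed_general {hstar : ∀ x : F, star x = x ^ q} (hF : Fintype.card F = q ^ 2) (hq : q ≠ 2)
    (P : Frame F) {c : F} (hc : c + star c = -1) (hc0 : c ≠ 0)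
    (hgen : Gen (star (c / star c) * star (c / star c) / (c / star c))) :
    SeedW hstar (star c + (c - star c) * (c * star c)) (1 / (c * star c))
      (c * (1 - c * star c) / ((c * star c) * (c * star c))) := by
  have hcs : star c ≠ 0 := star_ne_zero.mpr hc0
  have hN : c * star c ≠ 0 := mul_ne_zero hc0 hcs
  refine seed_of_data (hstar := hstar) hF hq P (a := star c + (c - star c) * (c * star c))
    (s := -(1 / (c * star c))) (z := 1 / (c * star c)) (b := 1 / (star c * (c * star c))) ?_
    (neg_ne_zero.mpr (one_div_ne_zero hN)) (by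
      rw [star_neg, star_div₀, star_one, star_mul', star_star, mul_comm (star c)]) (c * (1 - c * star c) / ((c * star c) * (c * star c)))
    ?_ ?_ (div_ne_zero hc0 hcs) hgen ?_
  · simp only [star_add, star_sub, star_mul', star_star]
    linear_combination hc
  · simp only [star_neg, star_div₀, star_one, star_mul', star_star]
    field_simp
  · simp only [star_neg, star_div₀, star_one, star_mul', star_sub, star_star]
    field_simp
    ring
  intro hb G hu hv
  have ha : star c + (c - star c) * (c * star c) +
      star (star c + (c - star c) * (c * star c)) + star (1 : F) * 1 = 0 := by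
    simp only [star_add, star_sub, star_mul', star_star, star_one]
    linear_combination hc
  refine ⟨_, mul_mem (mul_mem hv hu) hv, ?_⟩
  change act _ (P.co 1 0 0) = (c / star c) • P.co 1 0 0
  rw [act_mul, act_mul, P.act_lo hstar hb, P.act_up hstar ha, P.act_lo hstar hb, P.co_smul]
  have hc' : star c = -1 - c := by linear_combination hc
  congr 1 <;> simp only [star_div₀, star_one, star_mul', star_star] <;> field_simp <;>
    rw [hc'] <;> ring

end Cfsg.Agent.Small.Generation.SUThree
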