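import Cfsg.Agent.Lib.Small.Generation.SUThree.Embed

/-!
A group containing an embedded `SU_3(q)` and an element whose powers spread its middle vector over
the orthogonal of its first isotropic vector is the whole group.
-/

set_option autoImplicit false
set_option linter.unusedSectionVars false

namespace Cfsg.Agent.Small.Generation.SUThree

open Matrix Cfsg.Agent.Small.Unitary
open Cfsg.Agent.Small.Generation.TwoReg (Frame eq_top_of_trans)

variable {F : Type*} [Field F] [Fintype F] [StarRing F] {n q : ℕ}
variable {hstar : ∀ x : F, star x = x ^ q} {G : Subgroup (Cfsg.SU n F q)}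

/-- The translations of `G` along `E`, all whose multiples are translations. -/
def transl (hstar : ∀ x : F, star x = x ^ q) (G : Subgroup (Cfsg.SU n F q)) (E : Fin n → F)
    (hE : herm E E = 0) : Submodule F (Fin n → F) where
  carrier := {z | ∀ c : F, ∃ b, EOk E (c • z) b ∧ eich hstar E (c • z) b ∈ G}
  zero_mem' c := ⟨0, by rw [smul_zero]; exact (EOk_zero_iff hE).mpr (by simp), by
    rw [smul_zero, eich_zero_zero hstar hE]; exact one_mem G⟩
  add_mem' {x y} hx hy c := by
    obtain ⟨b, hb, hbG⟩ := hx c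
    obtain ⟨b', hb', hbG'⟩ := hy c
    rw [smul_add]
    exact ⟨_, hb.add hb', by rw [← eich_mul hstar hb hb']; exact mul_mem hbG hbG'⟩
  smul_mem' k x hx c := by rw [smul_smul]; exact hx _

theorem act_mem_transl {E : Fin n → F} (hE : herm E E = 0) {u : Cfsg.SU n F q} (hu : u ∈ G)
    (hue : act u E = E) {z : Fin n → F} (hz : z ∈ transl hstar G E hE) :
    act u z ∈ transl hstar G E hE := by
  intro c
  obtain ⟨b, hb, hbG⟩ := hz c
  have h := mul_mem (mul_mem hu hbG) (inv_mem hu)
  have hok := hb.act hstar u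
  rw [eich_conj hstar u hb, hue] at h
  rw [hue] at hok
  rw [← act_smul]
  exact ⟨b, hok, h⟩

theorem self_mem_transl {E : Fin n → F} (hE : herm E E = 0)
    (hT : ∀ t : F, star t = -t → eich hstar E 0 t ∈ G) : E ∈ transl hstar G E hE := by
  intro c
  have hok := (EOk_zero_iff (t := (0 : F)) hE).mpr (by simp)
  refine ⟨0, by simpa using hok.shift c, ?_⟩
  have h := eich_shift hstar c hok
  rw [zero_add, zero_add] at h
  rw [h]
  exact hT _ (by simp)

/-- All translations and both transvection groups give everything. -/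
theorem top_of_roots (hF : Fintype.card F = q ^ 2) (hn : 4 ≤ n) (S : Sub F n)
    (hEt : ∀ t : F, star t = -t → eich hstar S.E 0 t ∈ G)
    (hVt : ∀ t : F, star t = -t → eich hstar S.V 0 t ∈ G)
    (hfull : ∀ z, herm S.E z = 0 → z ∈ transl hstar G S.E S.EE) : G = ⊤ := by
  have hCe : Ctr hstar G S.E := ⟨S.EE, hEt⟩
  have hCv : Ctr hstar G S.V := ⟨S.VV, hVt⟩
  have hall : ∀ z b, EOk S.E z b → eich hstar S.E z b ∈ G := by
    intro z b hb
    obtain ⟨b', hb', hG'⟩ := hfull z hb.2.1 1
    rw [one_smul] at hb' hG'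
    have ht : star (b - b') = -(b - b') := by
      rw [star_sub]; linear_combination hb.2.2 - hb'.2.2
    have h := mul_mem hG' (hEt _ ht)
    rwa [eich_mul hstar hb' ((EOk_zero_iff S.EE).mpr ht), add_zero, herm_zero_right, sub_zero,
      add_sub_cancel] at h
  -- isotropic vectors off the hyperplane
  have hoff : ∀ y : Fin n → F, herm y y = 0 → herm S.E y ≠ 0 → Ctr hstar G y := by
    intro y hy hye
    set y' := (herm S.E y)⁻¹ • y with hy'
    have hy'y : herm y' y' = 0 := by rw [herm_smul_left, herm_smul_right, hy, mul_zero, mul_zero]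
    have hey' : herm S.E y' = 1 := by rw [herm_smul_right, inv_mul_cancel₀ hye]
    set z := y' - S.V with hz
    have hok : EOk S.E z (herm z S.V) := by
      refine ⟨S.EE, by rw [herm_sub_right, hey', S.EV, sub_self], ?_⟩
      have h1 : herm (S.V + z) (S.V + z) = 0 := by rw [hz, add_sub_cancel]; exact hy'y
      rw [herm_add_left, herm_add_right, herm_add_right, S.VV, ← star_herm z S.V] at h1
      linear_combination h1
    have h := hCv.act (hall z _ hok)
    rw [act_eich hstar hok, S.EV, one_smul, mul_one, sub_self, zero_smul, add_zero, hz,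
      add_sub_cancel] at h
    have h2 := h.smul (herm S.E y)
    rwa [hy', smul_inv_smul₀ hye] at h2
  obtain ⟨θ, hθ0, hθ⟩ := exists_skew hstar hF
  refine eq_top_of_trans hF (by omega) (fun h => by omega) S.E_ne S.EE (hstar := hstar)
    fun w hw t ht => ?_
  rw [trans_eq_eich hstar hw ht]
  refine (show Ctr hstar G w from ?_).2 t ht
  rcases eq_or_ne w 0 with rfl | hw0
  · exact ctr_zero
  by_cases hwe : herm S.E w ≠ 0
  · exact hoff w hw hwe
  push Not at hwe
  -- a centre seen from both
  obtain ⟨y, hy, hye, hyw⟩ : ∃ y, herm y y = 0 ∧ herm S.E y ≠ 0 ∧ herm y w ≠ 0 := by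
    by_cases hvw : herm S.V w ≠ 0
    · exact ⟨S.V, S.VV, by rw [S.EV]; exact one_ne_zero, hvw⟩
    push Not at hvw
    obtain ⟨k, hk⟩ := Function.ne_iff.mp hw0
    set x : Fin n → F := Pi.single k 1
    -- project `x` off the hyperbolic pair
    set z := x - herm S.V x • S.E - herm S.E x • S.V with hz
    have hez : herm S.E z = 0 := by
      simp [hz, herm_sub_right, herm_smul_right, S.EE, S.EV]
    have hzw : herm z w ≠ 0 := by
      rw [hz, herm_sub_left, herm_sub_left, herm_smul_left, herm_smul_left, hwe, hvw,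
        herm_single_left]
      simpa using hk
    obtain ⟨a, ha⟩ := exists_param hstar hF S.EE hez
    refine ⟨act (eich hstar S.E z a) S.V, by rw [herm_act hstar]; exact S.VV, ?_, ?_⟩
    · have h := herm_act hstar (eich hstar S.E z a) S.E S.V
      rw [act_eich_self hstar ha] at h
      rw [h, S.EV]; exact one_ne_zero
    · rw [act_eich hstar ha, S.EV, one_smul, herm_add_left, herm_add_left, herm_smul_left, hwe,
        hvw]
      simpa using hzw
  have hCy := hoff y hy hye
  set g := eich hstar y 0 θ with hg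
  have hgG : g ∈ G := hCy.2 θ hθ
  have hmove : herm S.E (act g w) ≠ 0 := by
    rw [hg, act_eich_zero hstar hy hθ, herm_add_right, hwe, zero_add, herm_smul_right]
    exact mul_ne_zero (mul_ne_zero hθ0 hyw) hye
  have h := (hoff _ (by rw [herm_act hstar]; exact hw) hmove).act (inv_mem hgG)
  rwa [act_inv_act] at h

theorem top_of_sub (hF : Fintype.card F = q ^ 2) (hn : 4 ≤ n) (S : Sub F n) (P : Frame F)
    (hS : ∀ g : Cfsg.SU 3 F q, S.phi hstar P g ∈ G) {u : Cfsg.SU n F q} (hu : u ∈ G)
    (hue : act u S.E = S.E)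
    (hspan : ∀ z : Fin n → F, herm S.E z = 0 →
      z ∈ Submodule.span F (insert S.E (Set.range fun k : ℕ => act (u ^ k) S.D))) : G = ⊤ := by
  have hzero : S.lift P 0 = 0 := by simp [Sub.lift]
  have hEt : ∀ t : F, star t = -t → eich hstar S.E 0 t ∈ G := fun t ht => by
    have h := hS (eich hstar P.e 0 t)
    rwa [S.phi_eich hstar P ((EOk_zero_iff P.ee).mpr ht), S.lift_e, hzero] at h
  have hVt : ∀ t : F, star t = -t → eich hstar S.V 0 t ∈ G := fun t ht => by
    have h := hS (eich hstar P.f 0 t)
    rwa [S.phi_eich hstar P ((EOk_zero_iff P.ff).mpr ht), S.lift_f, hzero] at h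
  have hKd : S.D ∈ transl hstar G S.E S.EE := by
    intro c
    obtain ⟨b, hb⟩ := exists_param hstar hF (e := P.e) (z := c • P.d) P.ee
      (by rw [herm_smul_right, P.ed, mul_zero])
    have h := hS (eich hstar P.e (c • P.d) b)
    rw [S.phi_eich hstar P hb, S.lift_e, S.lift_smul, S.lift_d] at h
    refine ⟨b, ⟨S.EE, by rw [herm_smul_right, S.ED, mul_zero], ?_⟩, h⟩
    rw [herm_smul_left, herm_smul_right, S.DD]
    have h1 := hb.2.2
    rw [herm_smul_left, herm_smul_right, P.dd] at h1
    exact h1
  have hKu : ∀ k : ℕ, act (u ^ k) S.D ∈ transl hstar G S.E S.EE := by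
    intro k
    induction k with
    | zero => rw [pow_zero, act_one]; exact hKd
    | succ k ih => rw [pow_succ', act_mul]; exact act_mem_transl S.EE hu hue ih
  refine top_of_roots hF hn S hEt hVt fun z hz => (Submodule.span_le.mpr ?_) (hspan z hz)
  rintro x (rfl | ⟨k, rfl⟩)
  exacts [self_mem_transl S.EE hEt, hKu k]

end Cfsg.Agent.Small.Generation.SUThree
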