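import Cfsg.Agent.Lib.Small.Generation.SUThree.Model
import Cfsg.Agent.Lib.Small.Generation.SUThree.Top
import Cfsg.Agent.Lib.Small.Generation.SUThree.SeedBase

/-!
Three conjugate regular unipotent generators of `SU_{2l+1}(q)`, `l ≥ 2`: the commutator of a torus
element with `u` is an Eichler element, and its conjugate by a third generator completes it to a
generating pair of an embedded `SU_3(q)`.
-/

set_option autoImplicit false
set_option linter.unusedSectionVars false

namespace Cfsg.Agent.Small.Generation.SUThree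

open Matrix Cfsg.Agent.Small.Unitary
open Cfsg.Agent.Small.Generation.TwoReg (J3 J3_herm J3_sq Frame)

variable {F : Type*} [Field F] [Fintype F] [StarRing F] {n q : ℕ}

set_option maxHeartbeats 1000000 in
theorem torus_iso {t : F} (ht : star t = t) (ht0 : t ≠ 0) :
    (!![t, 0, 0; 0, 1, 0; 0, 0, t⁻¹] : Matrix (Fin 3) (Fin 3) F)ᴴ * J3 *
      !![t, 0, 0; 0, 1, 0; 0, 0, t⁻¹] = J3 := by
  have hT : (!![t, 0, 0; 0, 1, 0; 0, 0, t⁻¹] : Matrix (Fin 3) (Fin 3) F)ᴴ =
      !![t, 0, 0; 0, 1, 0; 0, 0, t⁻¹] := by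
    ext i j
    fin_cases i <;> fin_cases j <;> simp [ht]
  rw [hT, J3, Matrix.mul_fin_three, Matrix.mul_fin_three]
  ext i j
  fin_cases i <;> fin_cases j <;> simp [ht0]

set_option maxHeartbeats 1000000 in
/-- The torus element of a frame. -/
theorem exists_torus (hstar : ∀ x : F, star x = x ^ q) (S : Sub F n) {t : F} (ht : star t = t)
    (ht0 : t ≠ 0) : ∃ g : Cfsg.SU n F q, ∀ x, act g x =
      x + ((t - 1) * herm S.V x) • S.E + ((t⁻¹ - 1) * herm S.E x) • S.V := by
  refine ⟨emb hstar S.U J3 J3_herm J3_sq S.gram _ (torus_iso ht ht0)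
    (by simp [Matrix.det_fin_three, ht0]), fun x => ?_⟩
  change embed S.U ((J3 : Matrix (Fin 3) (Fin 3) F) * S.Uᴴ) _ *ᵥ x = _
  rw [embed, Matrix.add_mulVec, Matrix.one_mulVec, ← Matrix.mulVec_mulVec, ← Matrix.mulVec_mulVec,
    S.combo, add_assoc]
  have hE : ∀ v : Fin 3 → F, herm (S.U *ᵥ v) x = star v ⬝ᵥ (S.Uᴴ *ᵥ x) := fun v => by
    rw [herm, Matrix.star_mulVec, ← Matrix.dotProduct_mulVec]
  rw [Sub.E, Sub.V, hE, hE]
  simp [J3, Matrix.mulVec, dotProduct, Fin.sum_univ_three, Matrix.mul_apply, Matrix.sub_apply]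
  abel

set_option maxHeartbeats 2000000 in
theorem three_of_params {hstar : ∀ x : F, star x = x ^ q} (hF : Fintype.card F = q ^ 2)
    {l : ℕ} (hl : 2 ≤ l) {a z R : F} (hseed : SeedW hstar a z R) (hR : R ≠ 0) {t f1 : F}
    (ht : star t = t) (ht0 : t ≠ 0) (ht1 : t ≠ 1) (hf1 : f1 + star f1 = -1)
    (hat : a * (t - 1) = t * f1 - star f1) {f2 : F}
    (hf2 : f2 = (1 - star R * R / (z * z * z)) / (star f1 * f1) *
      ((f1 + star f1 * f1) * (f1 + star f1 * f1)) - star f1 * f1)
    (hgood : l = 2 → f2 + star f2 + 4 ≠ 0) :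
    ∃ u g h : Cfsg.SU (2 * l + 1) F q,
      (IsNilpotent (u.1.1 - 1) ∧ (u.1.1 - 1) ^ (2 * l + 1 - 1) ≠ 0) ∧
      Subgroup.closure ({u, g * u * g⁻¹, h * u * h⁻¹} : Set ↥(Cfsg.SU (2 * l + 1) F q)) = ⊤ := by
  classical
  obtain ⟨ha, hz, hz0, P, hP⟩ := hseed
  -- the model
  set zs : ℕ → F := fun i => if i = 0 then star f1 else if i = 1 then star (f2 - star f1 - 3 * f1)
    else if i = l - 1 then star f1 else 0 with hzs
  set T := zs (l - 1) + star (zs (l - 1)) with hTd
  have hTs : star T = T := by rw [hTd, star_add, star_star, add_comm]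
  have hT0 : T ≠ 0 := by
    rcases Nat.lt_or_ge l 3 with hl3 | hl3
    · obtain rfl : l = 2 := by omega
      simp only [hTd, hzs, show (2 - 1 : ℕ) = 1 from rfl, one_ne_zero, if_false, if_true, star_star]
      intro h
      apply hgood rfl
      simp only [star_sub, star_mul', star_ofNat, star_star] at h
      linear_combination h + 4 * hf1
    · simp only [hTd, hzs, show l - 1 ≠ 0 by omega, show l - 1 ≠ 1 by omega, if_false, if_true,
        star_star]
      rw [add_comm, hf1]
      exact neg_ne_zero.mpr one_ne_zero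
  obtain ⟨M⟩ := exists_model hstar hF zs (l := l) (by omega) hT0
  set u := M.u with hu
  set w := M.w with hw
  obtain ⟨e, he⟩ : ∃ x, x = T⁻¹ • M.e₀ := ⟨_, rfl⟩
  have hue : act u e = e := by rw [he, act_smul, M.act_e₀ (by omega)]
  have hee0 : herm M.e₀ M.e₀ = 0 := by
    set y := M.psi ((Polynomial.X - 1) ^ (2 * l + 1 - 1 - 1)) with hy
    have h1 : M.e₀ = act u y - y := by
      rw [hy, M.act_psi, ← map_sub, Model.e₀]
      congr 1
      conv_lhs => rw [show 2 * l + 1 - 1 = 2 * l + 1 - 1 - 1 + 1 by omega, pow_succ]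
      ring
    conv_lhs => arg 2; rw [h1]
    rw [herm_sub_right]
    have h2 := herm_act hstar u M.e₀ y
    rw [M.act_e₀ (by omega)] at h2
    rw [h2, sub_self]
  have hwe0 : herm w M.e₀ = T := by
    rw [hw, Model.w, Model.e₀, M.herm_psi, pr, Polynomial.map_one, map_one, Module.End.one_apply,
      map_pow, map_sub, Polynomial.aeval_X, map_one, show 2 * l + 1 - 1 = 2 * l by omega]
    exact congrFun (delta_top zs (by omega)) 0
  have hee : herm e e = 0 := by rw [he, herm_smul_left, herm_smul_right, hee0, mul_zero, mul_zero]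
  have hew : herm e w = 1 := by
    rw [he, herm_smul_left, ← star_herm, hwe0, star_inv₀, hTs, inv_mul_cancel₀ hT0]
  have hwe : herm w e = 1 := by rw [← star_herm e w, hew, star_one]
  have huk : ∀ k : ℕ, act (u ^ k) e = e := by
    intro k
    induction k with
    | zero => rw [pow_zero, act_one]
    | succ k ih => rw [pow_succ, act_mul, hue, ih]
  have hek : ∀ k : ℕ, herm e (act (u ^ k) w) = 1 := fun k => by
    have h := herm_act hstar (u ^ k) e w
    rw [huk] at h
    rw [h, hew]
  have hwk : ∀ k : ℕ, herm w (act (u ^ k) w) = fs zs l k := fun k => by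
    have h := M.herm_w 0 k
    rw [pow_zero, act_one] at h
    rw [h]
    simp
  have hww : herm w w = 0 := by
    have h := hwk 0
    rwa [pow_zero, act_one, Nat.cast_zero, fs_zero] at h
  have hwu : herm w (act u w) = f1 := by
    have h := hwk 1
    rw [pow_one] at h
    rw [h, fs_small zs (show 1 ≤ l by omega), fs_natCast, Finset.sum_range_one]
    simp [hzs]
  have hwu2 : herm w (act (u ^ 2) w) = f2 := by
    rw [hwk 2, fs_small zs hl, fs_natCast, Finset.sum_range_succ, Finset.sum_range_one]
    simp [hzs, Nat.choose]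
    ring
  -- the translation part of `u`
  obtain ⟨z₀, hz₀⟩ : ∃ x, x = act u w - w - f1 • e := ⟨_, rfl⟩
  have huw : act u w = w + z₀ + f1 • e := by rw [hz₀]; abel
  have heuw : herm e (act u w) = 1 := by have h := hek 1; rwa [pow_one] at h
  have hez₀ : herm e z₀ = 0 := by
    rw [hz₀, herm_sub_right, herm_sub_right, herm_smul_right, heuw, hew, hee]; ring
  have hwz₀ : herm w z₀ = 0 := by
    rw [hz₀, herm_sub_right, herm_sub_right, herm_smul_right, hwu, hww, hwe]; ring
  have hz₀z₀ : herm z₀ z₀ = 1 := by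
    conv_lhs => arg 1; rw [hz₀]
    rw [herm_sub_left, herm_sub_left, herm_smul_left, hez₀, hwz₀, hz₀, herm_sub_right,
      herm_sub_right, herm_smul_right, herm_act hstar, hww, ← star_herm w (act u w), hwu,
      ← star_herm e (act u w), heuw, star_one]
    linear_combination -hf1
  obtain ⟨S₀, hS₀E, hS₀D, hS₀V⟩ := Sub.exists_of_vectors e z₀ w hee hez₀ hew hz₀z₀
    (herm_comm_zero hwz₀) hww
  obtain ⟨g, hg⟩ := exists_torus hstar S₀ ht ht0
  rw [hS₀E, hS₀V] at hg
  -- the frame
  have ht1' : t - 1 ≠ 0 := sub_ne_zero.mpr ht1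
  have hts : star (t - 1) = t - 1 := by rw [star_sub, ht, star_one]
  obtain ⟨S, hSE, hSD, hSV⟩ := Sub.exists_of_vectors ((t - 1) • e) z₀ ((t - 1)⁻¹ • w)
    (by rw [herm_smul_left, herm_smul_right, hee, mul_zero, mul_zero])
    (by rw [herm_smul_left, hez₀, mul_zero])
    (by rw [herm_smul_left, herm_smul_right, hew, hts, mul_one, mul_inv_cancel₀ ht1'])
    hz₀z₀ (by rw [herm_smul_right, herm_comm_zero hwz₀, mul_zero])
    (by rw [herm_smul_left, herm_smul_right, hww, mul_zero, mul_zero])
  have hokS : EOk S.E S.D a := ⟨S.EE, S.ED, by rw [S.DD]; exact ha⟩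
  have hx : g * u = eich hstar S.E S.D a * u * g := by
    have hokA : EOk ((t - 1) • e) z₀ a := by rw [← hSE, ← hSD]; exact hokS
    rw [hSE, hSD, eich_smul hstar hokA ht1']
    apply eq_of_act
    intro x
    have hA : star (t - 1) * (t - 1) * a = (t - 1) * (t * f1 - star f1) := by
      rw [hts, ← hat]; ring
    simp only [act_mul]
    rw [hg, hg, act_eich hstar (hokA.smul _ ht1'), act_add, act_add, act_smul, act_smul, hue, huw, hA,
      hts]
    have hux : herm e (act u x) = herm e x := by
      have h := herm_act hstar u e x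
      rwa [hue] at h
    have hz₀x : herm z₀ (act u x) = herm w x - herm w (act u x) - star f1 * herm e x := by
      rw [hz₀, herm_sub_left, herm_sub_left, herm_smul_left, herm_act hstar, hux]
    simp only [herm_add_right, herm_smul_left, herm_smul_right, hee, hew, hez₀, herm_comm_zero hez₀,
      hux, hz₀x, hts, hz₀z₀, herm_comm_zero hwz₀]
    match_scalars <;> field_simp <;>
      first | ring1 | linear_combination (-(t - 1) ^ 2 * herm e x) * hf1
  -- the anisotropic vector
  set m := star f1 * f1 with hm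
  have hf10 : f1 ≠ 0 := fun h => by
    rw [h, star_zero, add_zero] at hf1
    exact neg_ne_zero.mpr one_ne_zero hf1.symm
  have hm0 : m ≠ 0 := mul_ne_zero (star_ne_zero.mpr hf10) hf10
  have hms : star m = m := by rw [hm, star_mul', star_star, mul_comm]
  obtain ⟨β, hβ⟩ := exists_trace hstar hF hms
  obtain ⟨x₀, hx₀⟩ : ∃ x, x = w + β • e := ⟨_, rfl⟩
  have hxk : ∀ k : ℕ, herm x₀ (act (u ^ k) x₀) = herm w (act (u ^ k) w) + m := fun k => by
    simp only [hx₀, act_add, act_smul, huk, herm_add_left, herm_add_right, herm_smul_left,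
      herm_smul_right, hek, hwe, hee]
    linear_combination hβ
  have hxx : herm x₀ x₀ = m := by
    have h := hxk 0
    rwa [pow_zero, act_one, act_one, hww, zero_add] at h
  set g1 := f1 + m with hg1
  set g2 := f2 + m with hg2
  have hxu : herm x₀ (act u x₀) = g1 := by
    have h := hxk 1
    rwa [pow_one, hwu] at h
  have hxu2 : herm x₀ (act u (act u x₀)) = g2 := by
    have h := hxk 2
    rwa [hwu2, sq, act_mul] at h
  have hg1g : star g1 * g1 = m * m := by
    rw [hg1, star_add, hms]
    linear_combination m * hf1 - hm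
  set θ := star g1 / m with hθd
  have hθθ : star θ * θ = 1 := by
    rw [hθd, star_div₀, star_star, hms]; field_simp; linear_combination hg1g
  have hθ0 : θ ≠ 0 := fun h => by simp [h] at hθθ
  have hθs0 : star θ ≠ 0 := star_ne_zero.mpr hθ0
  have hRs0 : star R ≠ 0 := star_ne_zero.mpr hR
  have hθg1 : g1 = m * star θ := by rw [hθd, star_div₀, star_star, hms]; field_simp
  set κ := m * (star R * R) / (z * z * z) with hκd
  have hκs : star κ = κ := by
    rw [hκd]; simp only [star_div₀, star_mul', star_star, hms, hz]; ring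
  have hκ0 : κ ≠ 0 := div_ne_zero (mul_ne_zero hm0 (mul_ne_zero (star_ne_zero.mpr hR) hR))
    (mul_ne_zero (mul_ne_zero hz0 hz0) hz0)
  obtain ⟨E, hE⟩ : ∃ x, x = x₀ - θ • act u x₀ := ⟨_, rfl⟩
  obtain ⟨D, hD⟩ : ∃ x, x = act u x₀ := ⟨_, rfl⟩
  set ε := star θ * κ with hεd
  have hε0 : ε ≠ 0 := mul_ne_zero (star_ne_zero.mpr hθ0) hκ0
  have hDD : herm D D = m := by rw [hD, herm_act hstar, hxx]
  have huD : herm D (act u D) = g1 := by rw [hD, herm_act hstar, hxu]
  have hED : herm E D = 0 := by
    rw [hE, herm_sub_left, herm_smul_left, hD, hxu, herm_act hstar, hxx, hθg1]; ring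
  have hEE : herm E E = 0 := by
    conv_lhs => arg 2; rw [hE]
    rw [herm_sub_right, herm_smul_right, ← hD, hED, hE, herm_sub_left, herm_smul_left, ← hD, hxx,
      ← star_herm x₀ D, hD, hxu, hθg1, star_mul', star_star, hms]
    linear_combination (-m) * hθθ
  have huE : act u E = D - θ • act u D := by rw [hE, act_sub, act_smul, ← hD]
  have hDuE : herm D (act u E) = 0 := by
    rw [huE, herm_sub_right, herm_smul_right, hDD, huD, hθg1]
    linear_combination (-m) * hθθ
  have hEuE : herm E (act u E) = ε := by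
    rw [huE, herm_sub_right, herm_smul_right, hED, hE, herm_sub_left, herm_smul_left, ← hD, huD, hD,
      hxu2, hg2, hf2, hεd, hκd, hθg1]
    field_simp
    linear_combination (star θ * m * star R * R) * hθθ
  have huEE : herm (act u E) (act u E) = 0 := by rw [herm_act hstar]; exact hEE
  -- scalars
  obtain ⟨p, hp0, hp⟩ := Hermitian.exists_norm hstar hF (a := κ / z) (div_ne_zero hκ0 hz0)
    (by rw [star_div₀, hκs, hz])
  set σ := z * star θ with hσd
  set ρ := σ * p with hρd
  set s := -(ρ * z / R) with hsd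
  have hs0 : s ≠ 0 := neg_ne_zero.mpr (div_ne_zero
    (mul_ne_zero (mul_ne_zero (mul_ne_zero hz0 (star_ne_zero.mpr hθ0)) hp0) hz0) hR)
  have hss : star s * s = m := by
    have h1 : star s * s = z * z * (z * z) * (star θ * θ) * (star p * p) / (star R * R) := by
      rw [hsd, hρd, hσd]
      simp only [star_neg, star_div₀, star_mul', star_star, hz]
      field_simp
    rw [h1, hθθ, hp, hκd]
    field_simp
  have hpρ : star p * ρ = ε := by
    rw [hρd, hσd, hεd, show star p * (z * star θ * p) = z * star θ * (star p * p) by ring, hp]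
    field_simp
  have hss0 : star s ≠ 0 := star_ne_zero.mpr hs0
  obtain ⟨S₁, h1E, h1D, h1V⟩ := Sub.exists_of_vectors E (s⁻¹ • D) (ε⁻¹ • act u E) hEE
    (by rw [herm_smul_right, hED, mul_zero]) (by rw [herm_smul_right, hEuE, inv_mul_cancel₀ hε0])
    (by rw [herm_smul_left, herm_smul_right, hDD, star_inv₀, ← hss]; field_simp)
    (by rw [herm_smul_left, herm_smul_right, hDuE, mul_zero, mul_zero])
    (by rw [herm_smul_left, herm_smul_right, huEE, mul_zero, mul_zero])
  obtain ⟨S₂, h2E, h2D, h2V⟩ := Sub.exists_of_vectors (p • S.E) S.D ((ρ / ε) • S.V)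
    (by rw [herm_smul_left, herm_smul_right, S.EE, mul_zero, mul_zero])
    (by rw [herm_smul_left, S.ED, mul_zero])
    (by rw [herm_smul_left, herm_smul_right, S.EV, mul_one, ← mul_div_assoc, hpρ, div_self hε0])
    S.DD (by rw [herm_smul_right, S.DV, mul_zero])
    (by rw [herm_smul_left, herm_smul_right, S.VV, mul_zero, mul_zero])
  obtain ⟨h, hhE, hhD, hhV⟩ := exists_map hstar hF (by omega) S₁ S₂
  rw [h1E, h2E] at hhE
  rw [h1D, act_smul, h2D, inv_smul_eq_iff₀ hs0] at hhD
  rw [h1V, act_smul, h2V, inv_smul_eq_iff₀ hε0, smul_smul, mul_div_cancel₀ _ hε0] at hhV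
  set v := h * u * h⁻¹ with hv
  have hvE : act v S.E = σ • S.V := by
    have h1 : act v (p • S.E) = ρ • S.V := by
      rw [hv, ← hhE, act_mul, act_mul, act_inv_act, hhV]
    rw [act_smul] at h1
    have h2 := congrArg (fun x => p⁻¹ • x) h1
    simp only [inv_smul_smul₀ hp0, smul_smul] at h2
    rw [h2, hρd]
    congr 1
    field_simp
  set η := R / (z * θ) with hηd
  have hvD : act v S.D = θ⁻¹ • S.D + η • S.V := by
    have h1 : act v (s • S.D) = θ⁻¹ • (s • S.D - ρ • S.V) := by
      rw [hv, ← hhD, act_mul, act_mul, act_inv_act, ← hhV, ← act_sub, ← act_smul]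
      congr 1
      rw [huE, sub_sub_cancel, smul_smul, inv_mul_cancel₀ hθ0, one_smul]
    rw [act_smul] at h1
    have h2 := congrArg (fun x => s⁻¹ • x) h1
    simp only [inv_smul_smul₀ hs0, smul_sub, smul_smul] at h2
    rw [h2, hηd, hsd, hρd, hσd, sub_eq_add_neg, ← neg_smul]
    congr 1 <;> congr 1 <;> field_simp
  have hσ0 : σ ≠ 0 := mul_ne_zero hz0 (star_ne_zero.mpr hθ0)
  have hσs : star σ = z * θ := by rw [hσd, star_mul', star_star, hz]
  have hX : v * eich hstar S.E S.D a * v⁻¹ = eich hstar S.V (z • S.D) (z * z * a + R - star R) := by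
    rw [eich_conj hstar v hokS, hvE, hvD]
    have hok1 : EOk (σ • S.V) (θ⁻¹ • S.D + η • S.V) a := by
      rw [← hvE, ← hvD]; exact hokS.act hstar v
    have hσσ : star σ * σ = z * z := by
      rw [hσs, hσd]; linear_combination (z * z) * hθθ
    rw [eich_smul hstar hok1 hσ0, smul_add, smul_smul, smul_smul, hσσ,
      show star σ * θ⁻¹ = z by rw [hσs]; field_simp,
      show star σ * η = R by rw [hσs, hηd]; field_simp]
    refine eich_shift hstar R ⟨S.VV, ?_, ?_⟩
    · rw [herm_smul_right, herm_comm_zero S.DV, mul_zero]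
    · rw [herm_smul_left, herm_smul_right, S.DD, hz]
      simp only [star_mul', hz]
      linear_combination (z * z) * ha
  -- the group
  refine ⟨u, g, h, M.regular (by omega), ?_⟩
  set G := Subgroup.closure ({u, g * u * g⁻¹, h * u * h⁻¹} :
    Set ↥(Cfsg.SU (2 * l + 1) F q)) with hG
  have huG : u ∈ G := Subgroup.subset_closure (by simp)
  have hgG : g * u * g⁻¹ ∈ G := Subgroup.subset_closure (by simp)
  have hvG : v ∈ G := Subgroup.subset_closure (by simp [hv])
  have hxG : eich hstar S.E S.D a ∈ G := by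
    have h1 := mul_mem hgG (inv_mem huG)
    rwa [show g * u * g⁻¹ * u⁻¹ = eich hstar S.E S.D a by rw [hx]; group] at h1
  have hXG : eich hstar S.V (z • S.D) (z * z * a + R - star R) ∈ G := by
    rw [← hX]; exact mul_mem (mul_mem hvG hxG) (inv_mem hvG)
  have hSG : ∀ k : Cfsg.SU 3 F q, S.phi hstar P k ∈ G := by
    intro k
    have hle : Subgroup.closure ({eich hstar P.e P.d a,
        eich hstar P.f (z • P.d) (z * z * a + R - star R)} : Set ↥(Cfsg.SU 3 F q)) ≤
        G.comap (S.phi hstar P) := by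
      rw [Subgroup.closure_le]
      rintro y (rfl | rfl) <;> change S.phi hstar P _ ∈ G
      · rw [S.phi_eich hstar P ⟨P.ee, P.ed, by rw [P.dd]; exact ha⟩, S.lift_e, S.lift_d]
        exact hxG
      · rw [S.phi_eich hstar P (P.ok_lo (by
          simp only [star_add, star_sub, star_mul', star_star, hz]
          linear_combination (z * z) * ha)), S.lift_f, S.lift_smul, S.lift_d]
        exact hXG
    rw [hP] at hle
    exact hle (Subgroup.mem_top k)
  refine top_of_sub hF (by omega) S P hSG huG (by rw [hSE, act_smul, hue]) fun y hy => ?_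
  set K := Submodule.span F (insert S.E (Set.range fun k : ℕ => act (u ^ k) S.D)) with hK
  have heK : e ∈ K := by
    have h1 := K.smul_mem (t - 1)⁻¹ (Submodule.subset_span (Set.mem_insert S.E _))
    rwa [hSE, inv_smul_smul₀ ht1'] at h1
  have hdK : ∀ k : ℕ, act (u ^ k) z₀ ∈ K := fun k =>
    Submodule.subset_span (Set.mem_insert_of_mem _ ⟨k, by rw [hSD]⟩)
  have hwK : ∀ k : ℕ, act (u ^ k) w - w ∈ K := by
    intro k
    induction k with
    | zero => rw [pow_zero, act_one, sub_self]; exact K.zero_mem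
    | succ k ih =>
      rw [pow_succ, act_mul, huw, act_add, act_add, act_smul, huk,
        show act (u ^ k) w + act (u ^ k) z₀ + f1 • e - w =
          act (u ^ k) w - w + (act (u ^ k) z₀ + f1 • e) by abel]
      exact K.add_mem ih (K.add_mem (hdK k) (K.smul_mem _ heK))
  obtain ⟨c, hc⟩ : ∃ c : F, y - c • w ∈ K := by
    have hy' : y ∈ Submodule.span F (Set.range fun k : ℕ => act (u ^ k) w) := by
      rw [hu, hw, M.span_w]; exact Submodule.mem_top
    clear hy
    induction hy' using Submodule.span_induction with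
    | mem x hx => obtain ⟨k, rfl⟩ := hx; exact ⟨1, by rw [one_smul]; exact hwK k⟩
    | zero => exact ⟨0, by rw [zero_smul, sub_zero]; exact K.zero_mem⟩
    | add x x' _ _ hx hx' =>
      obtain ⟨c, hc⟩ := hx
      obtain ⟨c', hc'⟩ := hx'
      exact ⟨c + c', by
        rw [add_smul, show x + x' - (c • w + c' • w) = x - c • w + (x' - c' • w) by abel]
        exact K.add_mem hc hc'⟩
    | smul r x _ hx =>
      obtain ⟨c, hc⟩ := hx
      exact ⟨r * c, by rw [mul_smul, ← smul_sub]; exact K.smul_mem _ hc⟩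
  have hKperp : ∀ x ∈ K, herm e x = 0 := by
    intro x hx
    induction hx using Submodule.span_induction with
    | mem x hx =>
      rcases hx with rfl | ⟨k, rfl⟩
      · rw [hSE, herm_smul_right, hee, mul_zero]
      · rw [hSD]
        have h1 := herm_act hstar (u ^ k) e z₀
        rw [huk] at h1
        rw [h1, hez₀]
    | zero => exact herm_zero_right e
    | add x x' _ _ hx hx' => rw [herm_add_right, hx, hx', add_zero]
    | smul r x _ hx => rw [herm_smul_right, hx, mul_zero]
  have hc0 : c = 0 := by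
    have h1 := hKperp _ hc
    rw [hSE, herm_smul_left] at hy
    rw [herm_sub_right, herm_smul_right, hew, (mul_eq_zero.mp hy).resolve_left
      (by rw [hts]; exact ht1'), mul_one, zero_sub, neg_eq_zero] at h1
    exact h1
  rwa [hc0, zero_smul, sub_zero] at hc

end Cfsg.Agent.Small.Generation.SUThree
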