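import Cfsg.Agent.Lib.Small.Generation.TwoReg.Special

/-!
A word in two opposite root elements of `SU_3(2)` giving the second upper root element.
-/

set_option autoImplicit false
set_option linter.unusedSectionVars false
set_option linter.unusedSimpArgs false

namespace Cfsg.Agent.Small.Generation.SUThree

open Matrix Cfsg.Agent.Small.Unitary Cfsg.Agent.Small.Generation.TwoReg

variable {F : Type*} [Field F] [Fintype F] [StarRing F] {q : ℕ}

theorem upper_mem_two {hstar : ∀ x : F, star x = x ^ q} (P : Frame F) {x : F}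
    (hP : x ^ 2 + x + 1 = 0) (hp : (2 : F) = 0) (hx : star x = 1 + x) :
    eich hstar P.e (x • P.d) (1 + x) ∈ Subgroup.closure
      ({eich hstar P.e P.d (1 + x), eich hstar P.f (x • P.d) x} : Set ↥(Cfsg.SU 3 F q)) := by
  have hu0 : (1 + x) + star (1 + x) + star (1 : F) * 1 = 0 := by
    rw [star_add, star_one, hx]; linear_combination (2 + x) * hp
  have hv0 : x + star x + star x * x = 0 := by
    rw [hx]; linear_combination (1) * hP + (x) * hp
  have ht0 : (1 + x) + star (1 + x) + star x * x = 0 := by
    rw [star_add, star_one, hx]; linear_combination (1) * hP + (1 + x) * hp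
  set u := eich hstar P.e ((1 : F) • P.d) (1 + x) with hu
  set v := eich hstar P.f (x • P.d) x with hv
  set t := eich hstar P.e (x • P.d) (1 + x) with ht
  have e0_0 : act v (P.co (1) (0) (0)) = P.co (1) (x) (x) := by
    rw [hv, P.act_lo hstar hv0, hx]
    refine co_congr P ?_ ?_ ?_
    · ring
    · ring
    · ring
  have e0_1 : act v (P.co (1) (x) (x)) = P.co (1) (0) (1) := by
    rw [hv, P.act_lo hstar hv0, hx]
    refine co_congr P ?_ ?_ ?_
    · ring
    · linear_combination (x) * hp
    · linear_combination (-1) * hP + (x) * hp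
  have e0_2 : act u (P.co (1) (0) (1)) = P.co (x) (1) (1) := by
    rw [hu, P.act_up hstar hu0, star_one]
    refine co_congr P ?_ ?_ ?_
    · linear_combination (1) * hp
    · ring
    · ring
  have e0_3 : act v (P.co (x) (1) (1)) = P.co (x) (x) (1) := by
    rw [hv, P.act_lo hstar hv0, hx]
    refine co_congr P ?_ ?_ ?_
    · ring
    · linear_combination (1) * hP + (-x) * hp
    · linear_combination (1) * hP + (-1 - x) * hp
  have e0_4 : act v (P.co (x) (x) (1)) = P.co (x) (1) (1 + x) := by
    rw [hv, P.act_lo hstar hv0, hx]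
    refine co_congr P ?_ ?_ ?_
    · ring
    · linear_combination (1) * hP + (-1) * hp
    · linear_combination (-x) * hp
  have e0_5 : act u (P.co (x) (1) (1 + x)) = P.co (1) (x) (1 + x) := by
    rw [hu, P.act_up hstar hu0, star_one]
    refine co_congr P ?_ ?_ ?_
    · linear_combination (1) * hP + (-1 + x) * hp
    · linear_combination (1) * hp
    · ring
  have e0_6 : act v (P.co (1) (x) (1 + x)) = P.co (1) (0) (0) := by
    rw [hv, P.act_lo hstar hv0, hx]
    refine co_congr P ?_ ?_ ?_
    · ring
    · linear_combination (x) * hp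
    · linear_combination (-1) * hP + (1 + x) * hp
  have f0 : act t (P.co (1) (0) (0)) = P.co (1) (0) (0) := by
    rw [ht, P.act_up hstar ht0, hx]
    refine co_congr P ?_ ?_ ?_
    · ring
    · ring
    · ring
  have e1_0 : act v (P.co (0) (1) (0)) = P.co (0) (1) (1 + x) := by
    rw [hv, P.act_lo hstar hv0, hx]
    refine co_congr P ?_ ?_ ?_
    · ring
    · ring
    · linear_combination (-1 - x) * hp
  have e1_1 : act v (P.co (0) (1) (1 + x)) = P.co (0) (1) (0) := by
    rw [hv, P.act_lo hstar hv0, hx]
    refine co_congr P ?_ ?_ ?_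
    · ring
    · ring
    · ring
  have e1_2 : act u (P.co (0) (1) (0)) = P.co (1) (1) (0) := by
    rw [hu, P.act_up hstar hu0, star_one]
    refine co_congr P ?_ ?_ ?_
    · linear_combination (-1) * hp
    · ring
    · ring
  have e1_3 : act v (P.co (1) (1) (0)) = P.co (1) (1 + x) (1) := by
    rw [hv, P.act_lo hstar hv0, hx]
    refine co_congr P ?_ ?_ ?_
    · ring
    · ring
    · linear_combination (-1) * hp
  have e1_4 : act v (P.co (1) (1 + x) (1)) = P.co (1) (1) (1) := by
    rw [hv, P.act_lo hstar hv0, hx]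
    refine co_congr P ?_ ?_ ?_
    · ring
    · linear_combination (x) * hp
    · linear_combination (-1) * hP
  have e1_5 : act u (P.co (1) (1) (1)) = P.co (1 + x) (0) (1) := by
    rw [hu, P.act_up hstar hu0, star_one]
    refine co_congr P ?_ ?_ ?_
    · ring
    · linear_combination (1) * hp
    · ring
  have e1_6 : act v (P.co (1 + x) (0) (1)) = P.co (1 + x) (1) (0) := by
    rw [hv, P.act_lo hstar hv0, hx]
    refine co_congr P ?_ ?_ ?_
    · ring
    · linear_combination (1) * hP + (-1) * hp
    · linear_combination (1) * hP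
  have f1 : act t (P.co (0) (1) (0)) = P.co (1 + x) (1) (0) := by
    rw [ht, P.act_up hstar ht0, hx]
    refine co_congr P ?_ ?_ ?_
    · linear_combination (-1 - x) * hp
    · ring
    · ring
  have e2_0 : act v (P.co (0) (0) (1)) = P.co (0) (0) (1) := by
    rw [hv, P.act_lo hstar hv0, hx]
    refine co_congr P ?_ ?_ ?_
    · ring
    · ring
    · ring
  have e2_1 : act v (P.co (0) (0) (1)) = P.co (0) (0) (1) := by
    rw [hv, P.act_lo hstar hv0, hx]
    refine co_congr P ?_ ?_ ?_
    · ring
    · ring
    · ring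
  have e2_2 : act u (P.co (0) (0) (1)) = P.co (1 + x) (1) (1) := by
    rw [hu, P.act_up hstar hu0, star_one]
    refine co_congr P ?_ ?_ ?_
    · ring
    · ring
    · ring
  have e2_3 : act v (P.co (1 + x) (1) (1)) = P.co (1 + x) (0) (1 + x) := by
    rw [hv, P.act_lo hstar hv0, hx]
    refine co_congr P ?_ ?_ ?_
    · ring
    · linear_combination (1) * hP
    · linear_combination (1) * hP + (-1 - x) * hp
  have e2_4 : act v (P.co (1 + x) (0) (1 + x)) = P.co (1 + x) (1) (x) := by
    rw [hv, P.act_lo hstar hv0, hx]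
    refine co_congr P ?_ ?_ ?_
    · ring
    · linear_combination (1) * hP + (-1) * hp
    · linear_combination (1) * hP
  have e2_5 : act u (P.co (1 + x) (1) (x)) = P.co (1 + x) (1 + x) (x) := by
    rw [hu, P.act_up hstar hu0, star_one]
    refine co_congr P ?_ ?_ ?_
    · linear_combination (1) * hP + (-1) * hp
    · ring
    · ring
  have e2_6 : act v (P.co (1 + x) (1 + x) (x)) = P.co (1 + x) (x) (1) := by
    rw [hv, P.act_lo hstar hv0, hx]
    refine co_congr P ?_ ?_ ?_
    · ring
    · linear_combination (1) * hP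
    · linear_combination (-1) * hp
  have f2 : act t (P.co (0) (0) (1)) = P.co (1 + x) (x) (1) := by
    rw [ht, P.act_up hstar ht0, hx]
    refine co_congr P ?_ ?_ ?_
    · ring
    · ring
    · ring
  have key : v * u * v * v * u * v * v = t := by
    apply eq_of_act
    intro y
    rw [P.expand y, P.co_eq]
    simp only [act_add, act_smul, act_mul, Frame.e, Frame.d, Frame.f]
    simp only [e0_0, e0_1, e0_2, e0_3, e0_4, e0_5, e0_6, e1_0, e1_1, e1_2, e1_3, e1_4, e1_5, e1_6, e2_0, e2_1, e2_2, e2_3, e2_4, e2_5, e2_6, f0, f1, f2]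
  rw [← key]
  have hmu : u ∈ Subgroup.closure
      ({eich hstar P.e P.d (1 + x), v} : Set ↥(Cfsg.SU 3 F q)) := by
    rw [hu, one_smul]; exact Subgroup.subset_closure (Set.mem_insert _ _)
  have hmv : v ∈ Subgroup.closure
      ({eich hstar P.e P.d (1 + x), v} : Set ↥(Cfsg.SU 3 F q)) :=
    Subgroup.subset_closure (Set.mem_insert_of_mem _ rfl)
  exact (mul_mem (mul_mem (mul_mem (mul_mem (mul_mem (mul_mem hmv hmu) hmv) hmv) hmu) hmv) hmv)

end Cfsg.Agent.Small.Generation.SUThree
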