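import Cfsg.Agent.Lib.Small.Generation.SUThree.Model
import Cfsg.Agent.Lib.Small.Generation.SUThree.Top
import Cfsg.Agent.Lib.Small.Generation.SUThree.SeedTwo

/-!
Three conjugate regular unipotent generators of `SU_{2l+1}(2)`, `l ≥ 2`.
-/

set_option autoImplicit false
set_option linter.unusedSectionVars false
set_option linter.unusedSimpArgs false

namespace Cfsg.Agent.Small.Generation.SUThree

open Matrix Cfsg.Agent.Small.Unitary
open Cfsg.Agent.Small.Generation.TwoReg (J3 Frame exists_frame)

variable {F : Type*} [Field F] [Fintype F] [StarRing F] {n q : ℕ}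

set_option maxHeartbeats 2000000 in
theorem three_of_two {hstar : ∀ x : F, star x = x ^ q} (hF : Fintype.card F = q ^ 2) (hq : q = 2)
    {l : ℕ} (hl : 2 ≤ l) :
    ∃ u g h : Cfsg.SU (2 * l + 1) F q,
      (IsNilpotent (u.1.1 - 1) ∧ (u.1.1 - 1) ^ (2 * l + 1 - 1) ≠ 0) ∧
      Subgroup.closure ({u, g * u * g⁻¹, h * u * h⁻¹} : Set ↥(Cfsg.SU (2 * l + 1) F q)) = ⊤ := by
  classical
  have h2 : (2 : F) = 0 := by
    have : CharP F 2 := charP_of_card_eq_prime_pow (R := F) (p := 2) (f := 2)
      (by rw [hF, hq])
    exact_mod_cast CharP.cast_eq_zero F 2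
  have h4 : ∀ c : F, c ^ 4 = c := fun c => by
    have h := FiniteField.pow_card c
    rwa [hF, hq] at h
  -- the cube root of unity
  obtain ⟨x, hxne⟩ := Hermitian.exists_star_ne hstar hF
  rw [hstar, hq] at hxne
  have hx : x ^ 2 + x + 1 = 0 := by
    have h1 : x * (x - 1) * (x ^ 2 + x + 1) = 0 := by linear_combination h4 x
    rcases mul_eq_zero.mp h1 with h | h
    · exact absurd (by linear_combination h) hxne
    · exact h
  have hxs : star x = 1 + x := by
    rw [hstar, hq]; linear_combination hx - (1 + x) * h2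
  have hx0 : x ≠ 0 := fun h => by
    rw [h] at hx
    exact one_ne_zero (α := F) (by linear_combination hx)
  have hall4 : ∀ c : F, c = 0 ∨ c = 1 ∨ c = x ∨ c = 1 + x := fun c => by
    have h1 : c * (c - 1) * ((c - x) * (c - (1 + x))) = 0 := by
      linear_combination h4 c + (c * (c - 1)) * hx + (c * (c - 1)) * (-c * x - c - 1) * h2 +
        (c * (c - 1)) * (c * 0) * hx
    rcases mul_eq_zero.mp h1 with h | h
    · rcases mul_eq_zero.mp h with h | h
      exacts [Or.inl h, Or.inr (Or.inl (sub_eq_zero.mp h))]
    · rcases mul_eq_zero.mp h with h | h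
      exacts [Or.inr (Or.inr (Or.inl (sub_eq_zero.mp h))), Or.inr (Or.inr (Or.inr (sub_eq_zero.mp h)))]
  have hskew : ∀ t : F, star t = -t → t = 0 ∨ t = 1 := fun t ht => by
    rw [hstar, hq] at ht
    have h1 : t * (t - 1) = 0 := by linear_combination ht - t * h2
    rcases mul_eq_zero.mp h1 with h | h
    exacts [Or.inl h, Or.inr (sub_eq_zero.mp h)]
  -- the model
  set zs : ℕ → F := fun i => if i = 0 then 1 + x else if i ≤ 2 ∨ i = l - 1 then x else 0 with hzs
  set T := zs (l - 1) + star (zs (l - 1)) with hTd
  have hT1 : T = 1 := by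
    have : zs (l - 1) = x := by simp [hzs, show l - 1 ≠ 0 by omega]
    rw [hTd, this, hxs]; linear_combination x * h2
  have hT0 : T ≠ 0 := by rw [hT1]; exact one_ne_zero
  obtain ⟨M⟩ := exists_model hstar hF zs (l := l) (by omega) hT0
  set u := M.u with hu
  set w := M.w with hw
  obtain ⟨e, he⟩ : ∃ v, v = M.e₀ := ⟨_, rfl⟩
  have hue : act u e = e := by rw [he, M.act_e₀ (by omega)]
  have hee : herm e e = 0 := by
    set y := M.psi ((Polynomial.X - 1) ^ (2 * l + 1 - 1 - 1)) with hy
    have h1 : M.e₀ = act u y - y := by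
      rw [hy, M.act_psi, ← map_sub, Model.e₀]
      congr 1
      conv_lhs => rw [show 2 * l + 1 - 1 = 2 * l + 1 - 1 - 1 + 1 by omega, pow_succ]
      ring
    rw [he]
    conv_lhs => arg 2; rw [h1]
    rw [herm_sub_right]
    have h2 := herm_act hstar u M.e₀ y
    rw [M.act_e₀ (by omega)] at h2
    rw [h2, sub_self]
  have hwe : herm w e = 1 := by
    rw [← hT1, he, hw, Model.w, Model.e₀, M.herm_psi, pr, Polynomial.map_one, map_one,
      Module.End.one_apply, map_pow, map_sub, Polynomial.aeval_X, map_one,
      show 2 * l + 1 - 1 = 2 * l by omega]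
    exact congrFun (delta_top zs (by omega)) 0
  have hew : herm e w = 1 := by rw [← star_herm w e, hwe, star_one]
  have huk : ∀ k : ℕ, act (u ^ k) e = e := by
    intro k
    induction k with
    | zero => rw [pow_zero, act_one]
    | succ k ih => rw [pow_succ, act_mul, hue, ih]
  have hwk : ∀ k : ℕ, herm w (act (u ^ k) w) = fs zs l k := fun k => by
    have h := M.herm_w 0 k
    rw [pow_zero, act_one] at h
    rw [h]
    simp
  have hww : herm w w = 0 := by
    have h := hwk 0
    rwa [pow_zero, act_one, Nat.cast_zero, fs_zero] at h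
  obtain ⟨w1, hw1⟩ : ∃ v, v = act u w := ⟨_, rfl⟩
  obtain ⟨w2, hw2⟩ : ∃ v, v = act u w1 := ⟨_, rfl⟩
  obtain ⟨w3, hw3⟩ : ∃ v, v = act u w2 := ⟨_, rfl⟩
  have e01 : herm w w1 = x := by
    have h := hwk 1
    rw [pow_one] at h
    rw [hw1, h, fs_small zs (show 1 ≤ l by omega), fs_natCast, Finset.sum_range_one]
    simp [hzs, hxs]
    linear_combination h2
  have e02 : herm w w2 = x := by
    have h := hwk 2
    rw [sq, act_mul] at h
    rw [hw2, hw1, h, fs_small zs hl, fs_natCast, Finset.sum_range_succ, Finset.sum_range_one]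
    simp [hzs, hxs, Nat.choose]
    grind
  have e03 : herm w w3 = if l = 2 then x else 1 := by
    have h := hwk 3
    rw [pow_succ, pow_succ, pow_one, act_mul, act_mul] at h
    rw [hw3, hw2, hw1, h]
    split_ifs with hl2
    · subst hl2
      rw [fs_natCast, Finset.sum_range_succ, Finset.sum_range_one]
      simp [hzs, hxs, Nat.choose]
      grind
    · rw [fs_small zs (show 3 ≤ l by omega), fs_natCast, Finset.sum_range_succ,
        Finset.sum_range_succ, Finset.sum_range_one]
      simp [hzs, hxs, Nat.choose]
      grind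
  have sh : ∀ a b, herm (act u a) (act u b) = herm a b := herm_act hstar u
  have e11 : herm w1 w1 = 0 := by rw [hw1, sh, hww]
  have e12 : herm w1 w2 = x := by rw [hw2, hw1, sh, ← hw1, e01]
  have e13 : herm w1 w3 = x := by rw [hw3, hw1, sh, e02]
  have e22 : herm w2 w2 = 0 := by rw [hw2, sh, e11]
  have e23 : herm w2 w3 = x := by rw [hw3, hw2, sh, ← hw2, e12]
  have e10 : herm w1 w = 1 + x := by rw [← star_herm w w1, e01, hxs]
  have e20 : herm w2 w = 1 + x := by rw [← star_herm w w2, e02, hxs]
  have e21 : herm w2 w1 = 1 + x := by rw [← star_herm w1 w2, e12, hxs]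
  have ee1 : herm e w1 = 1 := by
    have := sh e w; rw [hue] at this; rw [hw1, this, hew]
  have ee2 : herm e w2 = 1 := by
    have := sh e w1; rw [hue] at this; rw [hw2, this, ee1]
  have ee3 : herm e w3 = 1 := by
    have := sh e w2; rw [hue] at this; rw [hw3, this, ee2]
  have e1e : herm w1 e = 1 := by rw [← star_herm e w1, ee1, star_one]
  have e2e : herm w2 e = 1 := by rw [← star_herm e w2, ee2, star_one]
  -- the first Eichler element
  obtain ⟨z₀, hz₀⟩ : ∃ v, v = w1 - w - x • e := ⟨_, rfl⟩
  have huz₀ : act u z₀ = w2 - w1 - x • e := by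
    rw [hz₀, act_sub, act_sub, act_smul, hue, ← hw1, ← hw2]
  have hok₀ : EOk e z₀ x := by
    refine ⟨hee, ?_, ?_⟩
    · rw [hz₀, herm_sub_right, herm_sub_right, herm_smul_right, ee1, hew, hee]; ring
    · rw [hz₀]
      simp only [herm_sub_left, herm_sub_right, herm_smul_left, herm_smul_right, e11, e10, e01, hww,
        e1e, hwe, ee1, hew, hee, hxs]
      ring_nf
  set g := eich hstar e z₀ x with hg
  obtain ⟨z, hz⟩ : ∃ v, v = w + w2 := ⟨_, rfl⟩
  have htwo : ∀ v : Fin (2 * l + 1) → F, v + v = 0 := fun v => by rw [← two_smul F v, h2, zero_smul]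
  have hez : herm e z = 0 := by
    rw [hz, herm_add_right, hew, ee2]; linear_combination h2
  have hzz : herm z z = 1 := by
    rw [hz, herm_add_left, herm_add_right, herm_add_right, hww, e02, e20, e22]
    linear_combination x * h2
  have hzeq : z₀ + act u ((-1 : F) • z₀) = z := by
    rw [act_smul, huz₀, hz, hz₀]
    match_scalars <;> grind
  have hokn : EOk e ((-1 : F) • z₀) (star x) := by
    refine ⟨hee, by rw [herm_smul_right, hok₀.2.1, mul_zero], ?_⟩
    rw [herm_smul_left, herm_smul_right, star_star, star_neg, star_one]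
    linear_combination hok₀.2.2
  have hokz : EOk e z (1 + x) := ⟨hee, hez, by rw [hzz, star_add, star_one, hxs]; linear_combination (2 + x) * h2⟩
  have hX : g * u * g⁻¹ * u⁻¹ = eich hstar e z (1 + x) := by
    have hginv : g⁻¹ = eich hstar e ((-1 : F) • z₀) (star x) := by
      rw [inv_eq_iff_mul_eq_one, hg, eich_mul hstar hok₀ hokn, herm_smul_right, neg_one_smul,
        add_neg_cancel, show x + star x - -1 * herm z₀ z₀ = 0 by linear_combination hok₀.2.2,
        eich_zero_zero hstar hee]
    have hokc := hokn.act hstar u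
    rw [hue] at hokc
    have hc : herm z₀ (act u ((-1 : F) • z₀)) = -x := by
      rw [act_smul, herm_smul_right, huz₀, hz₀]
      simp only [herm_sub_left, herm_sub_right, herm_smul_left, herm_smul_right, e12, e11, e02, e01,
        ee2, ee1, e1e, hwe, hee, hxs]
      linear_combination (0 : F) * hx
    rw [show g * u * g⁻¹ * u⁻¹ = g * (u * g⁻¹ * u⁻¹) by group, hginv, eich_conj hstar u hokn, hue, hg,
      eich_mul hstar hok₀ hokc, hzeq, hc]
    congr 1
    rw [hxs]
    linear_combination x * h2
  -- the frame
  obtain ⟨V, hV⟩ : ∃ v, v = x • w + (1 + x) • w2 + x • e := ⟨_, rfl⟩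
  obtain ⟨S, hSE, hSD, hSV⟩ := Sub.exists_of_vectors e z V hee hez
    (by
      rw [hV, herm_add_right, herm_add_right, herm_smul_right, herm_smul_right, herm_smul_right,
        hew, ee2, hee]
      linear_combination x * h2)
    hzz
    (by
      rw [hz, hV]
      simp only [herm_add_left, herm_add_right, herm_smul_left, herm_smul_right, hww, e02, e20, e22,
        hwe, e2e]
      linear_combination hx * 0 + (x * x + 2 * x) * h2 + 0 * hx)
    (by
      rw [hV]
      simp only [herm_add_left, herm_add_right, herm_smul_left, herm_smul_right, hww, e02, e20, e22,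
        hwe, e2e, hew, ee2, hee, star_add, star_one, hxs]
      grind)
  have hokS : EOk S.E S.D (1 + x) := by rw [hSE, hSD]; exact hokz
  -- the moved copy
  obtain ⟨x₀, hx₀⟩ : ∃ v, v = w + x • e := ⟨_, rfl⟩
  obtain ⟨D, hD⟩ : ∃ v, v = w1 + x • e := ⟨_, rfl⟩
  obtain ⟨D', hD'⟩ : ∃ v, v = w2 + x • e := ⟨_, rfl⟩
  have hux₀ : act u x₀ = D := by rw [hx₀, hD, act_add, act_smul, hue, ← hw1]
  have huD : act u D = D' := by rw [hD, hD', act_add, act_smul, hue, ← hw2]
  obtain ⟨E, hE⟩ : ∃ v, v = x₀ - x • D := ⟨_, rfl⟩
  have huE : act u E = D - x • D' := by rw [hE, act_sub, act_smul, hux₀, huD]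
  obtain ⟨S₁, h1E, h1D, h1V⟩ := Sub.exists_of_vectors E D ((1 + x) • act u E)
    (by
      rw [hE, hx₀, hD]
      simp only [herm_sub_left, herm_sub_right, herm_add_left, herm_add_right, herm_smul_left,
        herm_smul_right, hww, e01, e10, e11, hwe, hew, hee, ee1, e1e, hxs]
      grind)
    (by
      rw [hE, hx₀, hD]
      simp only [herm_sub_left, herm_sub_right, herm_add_left, herm_add_right, herm_smul_left,
        herm_smul_right, hww, e01, e10, e11, hwe, hew, hee, ee1, e1e, hxs]
      grind)
    (by
      rw [huE, hE, hx₀, hD, hD']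
      simp only [herm_sub_left, herm_sub_right, herm_add_left, herm_add_right, herm_smul_left,
        herm_smul_right, hww, e01, e10, e11, e02, e12, hwe, hew, hee, ee1, e1e, ee2, hxs]
      grind)
    (by
      rw [hD]
      simp only [herm_add_left, herm_add_right, herm_smul_left, herm_smul_right, e11, hee, ee1, e1e,
        hxs]
      grind)
    (by
      rw [herm_smul_right, huE, hD, hD']
      simp only [herm_sub_right, herm_add_left, herm_add_right, herm_smul_left,
        herm_smul_right, e11, e12, hee, ee1, e1e, ee2, hxs]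
      grind)
    (by
      rw [herm_smul_left, herm_smul_right, sh, hE, hx₀, hD]
      simp only [herm_sub_left, herm_sub_right, herm_add_left, herm_add_right, herm_smul_left,
        herm_smul_right, hww, e01, e10, e11, hwe, hew, hee, ee1, e1e, hxs]
      grind)
  obtain ⟨h, hhE, hhD, hhV⟩ := exists_map hstar hF (by omega) S₁ S
  rw [h1E] at hhE
  rw [h1D] at hhD
  rw [h1V, act_smul] at hhV
  have hinv : x * (1 + x) = 1 := by linear_combination hx - h2
  have hhV' : act h (act u E) = x • S.V := by rw [← hhV, smul_smul, hinv, one_smul]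
  set v := h * u * h⁻¹ with hv
  have hvE : act v S.E = x • S.V := by
    rw [hv, ← hhE, act_mul, act_mul, act_inv_act, hhV']
  have hvD : act v S.D = (1 + x) • S.D + (1 : F) • S.V := by
    have h1 : act v S.D = (1 + x) • (S.D - x • S.V) := by
      rw [hv, ← hhD, act_mul, act_mul, act_inv_act, ← hhV', ← act_sub, ← act_smul]
      congr 1
      rw [huE, sub_sub_cancel, smul_smul, mul_comm (1 + x), hinv, one_smul, huD]
    rw [h1, smul_sub, smul_smul, mul_comm (1 + x) x, hinv, one_smul, sub_eq_add_neg]
    congr 1
    exact (eq_neg_of_add_eq_zero_left (htwo _)).symm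
  have hokx : EOk S.V (x • S.D) x := by
    refine ⟨S.VV, by rw [herm_smul_right, herm_comm_zero S.DV, mul_zero], ?_⟩
    rw [herm_smul_left, herm_smul_right, S.DD, hxs]
    linear_combination hx + x * h2
  have hX2 : v * eich hstar S.E S.D (1 + x) * v⁻¹ = eich hstar S.V (x • S.D) x := by
    rw [eich_conj hstar v hokS, hvE, hvD]
    have hok1 : EOk (x • S.V) ((1 + x) • S.D + (1 : F) • S.V) (1 + x) := by
      rw [← hvE, ← hvD]; exact hokS.act hstar v
    rw [eich_smul hstar hok1 hx0, smul_add, smul_smul, smul_smul, hxs,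
      show (1 + x) * (1 + x) = x by linear_combination hx,
      show (1 + x) * x * (1 + x) = 1 + x by linear_combination (1 + x) * hinv, mul_one]
    have hok2 : EOk S.V (x • S.D) (1 + x) := ⟨hokx.1, hokx.2.1, by
      have := hokx.2.2
      rw [star_add, star_one]
      linear_combination this + h2⟩
    rw [eich_shift hstar (1 + x) hok2, star_add, star_one, hxs]
    congr 1
    grind
  -- the group
  refine ⟨u, g, h, M.regular (by omega), ?_⟩
  set G := Subgroup.closure ({u, g * u * g⁻¹, h * u * h⁻¹} :
    Set ↥(Cfsg.SU (2 * l + 1) F q)) with hG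
  have huG : u ∈ G := Subgroup.subset_closure (by simp)
  have hgG : g * u * g⁻¹ ∈ G := Subgroup.subset_closure (by simp)
  have hvG : v ∈ G := Subgroup.subset_closure (by simp [hv])
  have hxG : eich hstar S.E S.D (1 + x) ∈ G := by
    rw [hSE, hSD, ← hX]; exact mul_mem hgG (inv_mem huG)
  have hXG : eich hstar S.V (x • S.D) x ∈ G := by
    rw [← hX2]; exact mul_mem (mul_mem hvG hxG) (inv_mem hvG)
  have hEt : ∀ t : F, star t = -t → eich hstar S.E 0 t ∈ G := by
    intro t ht
    rcases hskew t ht with rfl | rfl
    · rw [eich_zero_zero hstar S.EE]; exact one_mem G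
    · have h := mul_mem hxG hxG
      rwa [eich_mul hstar hokS hokS, htwo, S.DD,
        show (1 + x) + (1 + x) - 1 = (1 : F) by linear_combination x * h2] at h
  have hVt : ∀ t : F, star t = -t → eich hstar S.V 0 t ∈ G := by
    intro t ht
    rcases hskew t ht with rfl | rfl
    · rw [eich_zero_zero hstar S.VV]; exact one_mem G
    · have h := mul_mem hXG hXG
      rwa [eich_mul hstar hokx hokx, htwo, herm_smul_left, herm_smul_right, S.DD, hxs,
        show x + x - (1 + x) * (x * 1) = (1 : F) by linear_combination -hinv + (x - 1) * h2] at h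
  obtain ⟨P⟩ := exists_frame hstar hF
  have hxD : eich hstar S.E (x • S.D) (1 + x) ∈ G := by
    have hle : Subgroup.closure ({eich hstar P.e P.d (1 + x),
        eich hstar P.f (x • P.d) x} : Set ↥(Cfsg.SU 3 F q)) ≤ G.comap (S.phi hstar P) := by
      rw [Subgroup.closure_le]
      rintro y (rfl | rfl) <;> change S.phi hstar P _ ∈ G
      · rw [S.phi_eich hstar P ⟨P.ee, P.ed, by
          rw [P.dd, star_add, star_one, hxs]; linear_combination (2 + x) * h2⟩, S.lift_e, S.lift_d]
        exact hxG
      · rw [S.phi_eich hstar P (P.ok_lo (by rw [hxs]; linear_combination hx + x * h2)), S.lift_f,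
          S.lift_smul, S.lift_d]
        exact hXG
    have h : S.phi hstar P _ ∈ G := hle (upper_mem_two (hstar := hstar) P hx h2 hxs)
    rwa [S.phi_eich hstar P (P.ok_up (by
      rw [star_add, star_one, hxs]; linear_combination hx + (1 + x) * h2)), S.lift_e, S.lift_smul,
      S.lift_d] at h
  set K := transl hstar G S.E S.EE with hK
  have huS : act u S.E = S.E := by rw [hSE, hue]
  have heK : S.E ∈ K := self_mem_transl S.EE hEt
  have hokD' : EOk S.E (x • S.D) (1 + x) := by
    refine ⟨S.EE, by rw [herm_smul_right, S.ED, mul_zero], ?_⟩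
    rw [herm_smul_left, herm_smul_right, S.DD, star_add, star_one, hxs]
    linear_combination hx + (1 + x) * h2
  have hDK : S.D ∈ K := by
    intro c
    rcases hall4 c with rfl | rfl | rfl | rfl
    · exact ⟨0, by rw [zero_smul]; exact (EOk_zero_iff S.EE).mpr (by simp), by
        rw [zero_smul, eich_zero_zero hstar S.EE]; exact one_mem G⟩
    · exact ⟨1 + x, by rw [one_smul]; exact hokS, by rw [one_smul]; exact hxG⟩
    · exact ⟨_, hokD', hxD⟩
    · rw [add_smul, one_smul]
      exact ⟨_, hokS.add hokD', by rw [← eich_mul hstar hokS hokD']; exact mul_mem hxG hxD⟩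
  have hzK : z ∈ K := by rw [← hSD]; exact hDK
  have huzK : act u z ∈ K := act_mem_transl S.EE huG huS hzK
  -- the missing direction
  set γ := herm V (act u V) with hγ
  have huV : act u V = x • w1 + (1 + x) • w3 + x • e := by
    rw [hV, act_add, act_add, act_smul, act_smul, act_smul, hue, ← hw1, ← hw3]
  have hγs : star γ = -γ := by
    have h30 : herm w w3 = x ∨ herm w w3 = 1 := by
      rw [e03]; split_ifs <;> simp
    have hval : γ = (1 + x) + x * herm w w3 := by
      rw [hγ, huV, hV]
      simp only [herm_add_left, herm_add_right, herm_smul_left, herm_smul_right, e01, e21, e23, ee1,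
        ee3, hwe, e2e, hee, star_add, star_one, hxs]
      grind
    rcases h30 with h | h <;> rw [hval, h]
    · rw [show (1 + x) + x * x = (0 : F) by linear_combination hx, star_zero, neg_zero]
    · rw [show (1 + x) + x * 1 = (1 : F) by linear_combination x * h2, star_one]
      linear_combination h2
  obtain ⟨r, hr⟩ : ∃ r, r = 1 - γ := ⟨_, rfl⟩
  have hrs : star r = -r := by
    rw [hr, star_sub, star_one, hγs]; linear_combination h2
  have hCV : Ctr hstar G S.V := ⟨S.VV, hVt⟩
  have hp : Ctr hstar G (V + r • e) := by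
    have h := hCV.act (hEt r hrs)
    rwa [act_eich_zero hstar S.EE hrs, S.EV, mul_one, hSV, hSE] at h
  obtain ⟨y, hy⟩ : ∃ v, v = act u V := ⟨_, rfl⟩
  have hCy : Ctr hstar G y := by
    rw [hy, ← hSV]; exact hCV.act huG
  have heV : herm e V = 1 := by rw [← hSV, ← hSE]; exact S.EV
  have hey : herm e y = 1 := by
    have h := sh e V
    rw [hue] at h
    rw [hy, h, heV]
  obtain ⟨c, hc⟩ : ∃ v, v = y + (V + r • e) := ⟨_, rfl⟩
  have h1s : star (1 : F) = -1 := by rw [star_one]; linear_combination h2
  have hCc : Ctr hstar G c := by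
    have h := hCy.act (hp.2 1 h1s)
    rw [act_eich_zero hstar hp.1 h1s] at h
    rwa [show 1 * herm (V + r • e) y = 1 by
      rw [one_mul, herm_add_left, herm_smul_left, hey, hy, ← hγ, hrs, hr]
      linear_combination (γ - 1) * 0 + (γ - 1) * h2 + (0 : F) * h2, one_smul, ← hc] at h
  have hec : herm e c = 0 := by
    rw [hc, herm_add_right, herm_add_right, herm_smul_right, hey, heV, hee]
    linear_combination h2
  have hcz : c - z₀ ∈ K := by
    have e1 : c - z₀ = (1 + x) • z + (1 + x) • act u z + (r + x) • e := by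
      rw [hc, hy, huV, hV, hz₀, hz, act_add, ← hw1, ← hw3]
      match_scalars <;> grind
    rw [e1]
    exact K.add_mem (K.add_mem (K.smul_mem _ hzK) (K.smul_mem _ huzK))
      (by rw [← hSE]; exact K.smul_mem _ heK)
  have hdec : ∀ y', herm e y' = 0 → ∃ a : F, y' - a • c ∈ K := by
    -- powers of `u` on `z₀` stay in its coset
    have hzk : ∀ k : ℕ, act (u ^ k) z₀ - z₀ ∈ K := by
      intro k
      induction k with
      | zero => rw [pow_zero, act_one, sub_self]; exact K.zero_mem
      | succ k ih =>
        have h1 := act_mem_transl S.EE huG huS ih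
        rw [act_sub, ← act_mul, ← pow_succ'] at h1
        have h2' : act u z₀ - z₀ ∈ K := by
          rw [show act u z₀ - z₀ = -(z₀ + act u ((-1 : F) • z₀)) by rw [act_smul]; module, hzeq]
          exact K.neg_mem hzK
        have h3 := K.add_mem h1 h2'
        rwa [sub_add_sub_cancel] at h3
    have hwK : ∀ k : ℕ, ∃ a : F, act (u ^ k) w - w - a • c ∈ K := by
      intro k
      induction k with
      | zero => exact ⟨0, by rw [pow_zero, act_one, sub_self, zero_smul, sub_zero]; exact K.zero_mem⟩
      | succ k ih =>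
        obtain ⟨a, ha⟩ := ih
        refine ⟨a + 1, ?_⟩
        rw [pow_succ, act_mul, ← hw1, show w1 = w + z₀ + x • e by rw [hz₀]; abel, act_add, act_add,
          act_smul, huk, show act (u ^ k) w + act (u ^ k) z₀ + x • e - w - (a + 1) • c =
            act (u ^ k) w - w - a • c + (act (u ^ k) z₀ - z₀) + (-(c - z₀)) + x • e by module]
        exact K.add_mem (K.add_mem (K.add_mem ha (hzk k)) (K.neg_mem hcz))
          (by rw [← hSE]; exact K.smul_mem _ heK)
    intro y' hy'
    have hy2 : y' ∈ Submodule.span F (Set.range fun k : ℕ => act (u ^ k) w) := by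
      rw [hu, hw, M.span_w]; exact Submodule.mem_top
    obtain ⟨a, b, hab⟩ : ∃ a b : F, y' - b • w - a • c ∈ K := by
      clear hy'
      induction hy2 using Submodule.span_induction with
      | mem v' hv' =>
        obtain ⟨k, rfl⟩ := hv'
        obtain ⟨a, ha⟩ := hwK k
        exact ⟨a, 1, by rw [one_smul]; exact ha⟩
      | zero => exact ⟨0, 0, by rw [zero_smul, zero_smul, sub_zero, sub_zero]; exact K.zero_mem⟩
      | add v1 v2 _ _ h1 h2' =>
        obtain ⟨a, b, hab⟩ := h1
        obtain ⟨a', b', hab'⟩ := h2'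
        exact ⟨a + a', b + b', by
          rw [show v1 + v2 - (b + b') • w - (a + a') • c =
            v1 - b • w - a • c + (v2 - b' • w - a' • c) by module]
          exact K.add_mem hab hab'⟩
      | smul s v' _ hv' =>
        obtain ⟨a, b, hab⟩ := hv'
        exact ⟨s * a, s * b, by rw [mul_smul, mul_smul, ← smul_sub, ← smul_sub]; exact K.smul_mem _ hab⟩
    obtain ⟨b', hb', -⟩ := hab 1
    have hb0 : b = 0 := by
      have h1 := hb'.2.1
      rw [one_smul, hSE, herm_sub_right, herm_sub_right, herm_smul_right, herm_smul_right, hy', hew,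
        hec] at h1
      linear_combination -h1
    exact ⟨a, by rwa [hb0, zero_smul, sub_zero] at hab⟩
  have hcK : c ∈ K := by
    by_contra hcn
    -- some translation does not fix `c`
    obtain ⟨m, hm, hmc⟩ : ∃ m ∈ K, herm m c ≠ 0 := by
      by_contra hno
      push Not at hno
      apply hcn
      have hperp : ∀ y', herm e y' = 0 → herm c y' = 0 := fun y' hy' => by
        obtain ⟨a, ha⟩ := hdec y' hy'
        have h1 := herm_comm_zero (hno _ ha)
        rwa [herm_sub_right, herm_smul_right, hCc.1, mul_zero, sub_zero] at h1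
      have hce : c = star (herm c V) • e := by
        funext i
        have h1 := hperp (Pi.single i 1 - herm e (Pi.single i 1) • V) (by
          rw [herm_sub_right, herm_smul_right, heV, mul_one, sub_self])
        rw [herm_sub_right, herm_smul_right, herm_single_right, herm_single_right, mul_one, mul_one,
          sub_eq_zero] at h1
        have h3 := congrArg star h1
        rw [star_star, star_mul', star_star] at h3
        rw [h3, Pi.smul_apply, smul_eq_mul, mul_comm]
      rw [hce, ← hSE]
      exact K.smul_mem _ heK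
    apply hcn
    intro a
    rcases eq_or_ne a 0 with rfl | ha0
    · exact K.zero_mem |> fun h0 => by simpa using h0 1
    obtain ⟨k, hk⟩ : ∃ k, k = star a := ⟨_, rfl⟩
    -- the centre `c + k e`
    obtain ⟨b, hb, hbG⟩ := hm (star (-k / herm m c))
    have hcek : Ctr hstar G (c + k • e) := by
      have h := hCc.act hbG
      rw [act_eich hstar hb, hSE, hec, zero_smul, add_zero, mul_zero, zero_sub, herm_smul_left,
        star_star, div_mul_cancel₀ _ hmc, neg_neg] at h
      exact h
    have hN : star a * a = 1 := by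
      rw [hstar, hq]
      exact mul_left_cancel₀ ha0 (by linear_combination h4 a)
    have hokc : EOk S.E (a • c) (star k * k) := by
      refine ⟨S.EE, by rw [hSE, herm_smul_right, hec, mul_zero], ?_⟩
      rw [herm_smul_left, herm_smul_right, hCc.1, star_mul', star_star]
      linear_combination (star k * k) * h2
    refine ⟨_, hokc, ?_⟩
    have hcs : herm c e = 0 := herm_comm_zero hec
    have hckk : herm (c + k • e) (c + k • e) = 0 := hcek.1
    have key : eich hstar S.E (a • c) (star k * k) =
        eich hstar (c + k • e) 0 1 * eich hstar c 0 1 := by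
      apply eq_of_act
      intro v'
      rw [act_mul, act_eich hstar hokc, act_eich_zero hstar hckk h1s, act_eich_zero hstar hCc.1 h1s,
        hSE, one_mul, one_mul]
      simp only [herm_add_left, herm_add_right, herm_smul_left, herm_smul_right, hCc.1, hec, hcs]
      rw [hk, star_star]
      match_scalars
      · rfl
      · linear_combination (-herm c v') * h2
      · linear_combination (-(star a) * herm c v') * h2
    rw [key]
    exact mul_mem (hcek.2 1 h1s) (hCc.2 1 h1s)
  refine top_of_roots hF (by omega) S hEt hVt fun y' hy' => ?_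
  rw [hSE] at hy'
  obtain ⟨a, ha⟩ := hdec y' hy'
  have h := K.add_mem ha (K.smul_mem a hcK)
  rwa [sub_add_cancel] at h

end Cfsg.Agent.Small.Generation.SUThree
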