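import Cfsg.Agent.Lib.Small.Generation.TwoReg.Main
import Cfsg.Agent.Lib.Classical.HermWitt

/-!
Hyperbolic three-dimensional subspaces of a unitary space: the embedded `SU_3(q)` and transitivity.
-/

set_option autoImplicit false
set_option linter.unusedSectionVars false
set_option linter.style.haveILetI false

namespace Cfsg.Agent.Small.Generation.SUThree

open Matrix Cfsg.Agent.Small.Unitary
open Cfsg.Agent.Small.Generation.TwoReg (J3 J3_herm J3_sq Frame)

variable {F : Type*} [Field F] [Fintype F] [StarRing F] {n q : ℕ}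

/-- A hyperbolic frame of a three-dimensional subspace. -/
structure Sub (F : Type*) [Field F] [Fintype F] [StarRing F] (n : ℕ) where
  /-- The columns. -/
  U : Matrix (Fin n) (Fin 3) F
  gram : Uᴴ * U = J3

namespace Sub

variable (S : Sub F n)

/-- The first isotropic vector. -/
def E : Fin n → F := S.U *ᵥ ![1, 0, 0]
/-- The middle vector. -/
def D : Fin n → F := S.U *ᵥ ![0, 1, 0]
/-- The second isotropic vector. -/
def V : Fin n → F := S.U *ᵥ ![0, 0, 1]

theorem herm_mulVec (x y : Fin 3 → F) : herm (S.U *ᵥ x) (S.U *ᵥ y) = herm x (J3 *ᵥ y) := by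
  rw [herm, herm, Matrix.star_mulVec, ← Matrix.dotProduct_mulVec, Matrix.mulVec_mulVec, S.gram]

theorem EE : herm S.E S.E = 0 := by
  rw [E, herm_mulVec]; simp [herm, J3, dotProduct, Matrix.mulVec, Fin.sum_univ_three]
theorem ED : herm S.E S.D = 0 := by
  rw [E, D, herm_mulVec]; simp [herm, J3, dotProduct, Matrix.mulVec, Fin.sum_univ_three]
theorem EV : herm S.E S.V = 1 := by
  rw [E, V, herm_mulVec]; simp [herm, J3, dotProduct, Matrix.mulVec, Fin.sum_univ_three]
theorem DD : herm S.D S.D = 1 := by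
  rw [D, herm_mulVec]; simp [herm, J3, dotProduct, Matrix.mulVec, Fin.sum_univ_three]
theorem DV : herm S.D S.V = 0 := by
  rw [D, V, herm_mulVec]; simp [herm, J3, dotProduct, Matrix.mulVec, Fin.sum_univ_three]
theorem VV : herm S.V S.V = 0 := by
  rw [V, herm_mulVec]; simp [herm, J3, dotProduct, Matrix.mulVec, Fin.sum_univ_three]

theorem E_ne : S.E ≠ 0 := fun h => by
  have h1 := S.EV
  rw [h, herm_zero_left] at h1
  exact zero_ne_one h1

theorem combo (a : Fin 3 → F) : S.U *ᵥ a = a 0 • S.E + a 1 • S.D + a 2 • S.V := by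
  simp only [E, D, V, ← Matrix.mulVec_smul, ← Matrix.mulVec_add]
  congr 1
  funext i
  fin_cases i <;> simp

/-- From three vectors. -/
theorem exists_of_vectors (x y z : Fin n → F) (hxx : herm x x = 0) (hxy : herm x y = 0)
    (hxz : herm x z = 1) (hyy : herm y y = 1) (hyz : herm y z = 0) (hzz : herm z z = 0) :
    ∃ S : Sub F n, S.E = x ∧ S.D = y ∧ S.V = z := by
  let U : Matrix (Fin n) (Fin 3) F := Matrix.of fun i j => (![x, y, z] j) i
  have hgram : Uᴴ * U = J3 := by
    ext i j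
    have h : (Uᴴ * U) i j = herm (![x, y, z] i) (![x, y, z] j) := by
      simp [Matrix.mul_apply, U, herm, dotProduct, Matrix.conjTranspose_apply]
    rw [h]
    fin_cases i <;> fin_cases j <;>
      simp [J3, hxx, hxy, hxz, hyy, hyz, hzz, herm_comm_zero hxy, herm_comm_zero hyz,
        show herm z x = 1 by rw [← star_herm x z, hxz, star_one]]
  refine ⟨⟨U, hgram⟩, ?_, ?_, ?_⟩ <;> funext i <;>
    simp [E, D, V, Matrix.mulVec, dotProduct, U, Fin.sum_univ_three]

/-- The linear map from the three-dimensional frame. -/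
def lift (P : Frame F) (x : Fin 3 → F) : Fin n → F := S.U *ᵥ (((J3 : Matrix (Fin 3) (Fin 3) F) * P.Qᴴ) *ᵥ x)

theorem lift_co (P : Frame F) (α β γ : F) :
    S.lift P (P.co α β γ) = α • S.E + β • S.D + γ • S.V := by
  rw [lift, Frame.co, Matrix.mulVec_mulVec _ ((J3 : Matrix (Fin 3) (Fin 3) F) * P.Qᴴ), Matrix.mul_assoc, P.gram, J3_sq,
    Matrix.one_mulVec, S.combo]
  rfl

theorem herm_lift (P : Frame F) (x y : Fin 3 → F) :
    herm (S.lift P x) (S.lift P y) = herm x y := by
  rw [lift, lift, herm_mulVec, Matrix.mulVec_mulVec, ← Matrix.mul_assoc, J3_sq, Matrix.one_mul,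
    herm, herm, Matrix.star_mulVec, ← Matrix.dotProduct_mulVec, Matrix.mulVec_mulVec,
    Matrix.conjTranspose_mul, Matrix.conjTranspose_conjTranspose, J3_herm, Matrix.mul_assoc,
    P.right_inv, Matrix.one_mulVec]

variable (hstar : ∀ x : F, star x = x ^ q)

/-- The matrix in frame coordinates. -/
def inner (P : Frame F) (g : Cfsg.SU 3 F q) : Matrix (Fin 3) (Fin 3) F := (J3 : Matrix (Fin 3) (Fin 3) F) * P.Qᴴ * g.1.1 * P.Q

include hstar in
theorem inner_unitary (P : Frame F) (g : Cfsg.SU 3 F q) :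
    (inner P g)ᴴ * J3 * inner P g = J3 := by
  have hr : P.Q * (J3 : Matrix (Fin 3) (Fin 3) F) * P.Qᴴ = 1 := by rw [Matrix.mul_assoc]; exact P.right_inv
  calc (inner P g)ᴴ * J3 * inner P g
      = P.Qᴴ * (g.1.1ᴴ * ((P.Q * (J3 : Matrix (Fin 3) (Fin 3) F) * P.Qᴴ) * g.1.1)) * P.Q := by
        simp only [inner, Matrix.conjTranspose_mul, Matrix.conjTranspose_conjTranspose, J3_herm,
          Matrix.mul_assoc]
        rw [← Matrix.mul_assoc (J3 : Matrix (Fin 3) (Fin 3) F) J3, J3_sq, Matrix.one_mul]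
    _ = J3 := by
        rw [hr, Matrix.one_mul, conjTranspose_mul_self hstar, Matrix.mul_one, P.gram]

theorem inner_det (P : Frame F) (g : Cfsg.SU 3 F q) : (inner P g).det = 1 := by
  have h : ((J3 : Matrix (Fin 3) (Fin 3) F) * P.Qᴴ).det * P.Q.det = 1 := by
    rw [← Matrix.det_mul, Matrix.mul_assoc, P.gram, J3_sq, Matrix.det_one]
  rw [inner, Matrix.det_mul, Matrix.det_mul, g.1.2, mul_one, h]

/-- The embedded `SU_3`. -/
def phi (P : Frame F) : Cfsg.SU 3 F q →* Cfsg.SU n F q where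
  toFun g := emb hstar S.U J3 J3_herm J3_sq S.gram (inner P g) (inner_unitary hstar P g) (inner_det P g)
  map_one' := by
    apply Subtype.ext; apply Subtype.ext
    change embed S.U ((J3 : Matrix (Fin 3) (Fin 3) F) * S.Uᴴ) ((J3 : Matrix (Fin 3) (Fin 3) F) * P.Qᴴ * 1 * P.Q) = 1
    rw [Matrix.mul_one, Matrix.mul_assoc, P.gram, J3_sq, embed, sub_self, Matrix.mul_zero,
      Matrix.zero_mul, add_zero]
  map_mul' g h := by
    apply Subtype.ext; apply Subtype.ext
    change embed S.U ((J3 : Matrix (Fin 3) (Fin 3) F) * S.Uᴴ) ((J3 : Matrix (Fin 3) (Fin 3) F) * P.Qᴴ * (g.1.1 * h.1.1) * P.Q) =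
      embed S.U ((J3 : Matrix (Fin 3) (Fin 3) F) * S.Uᴴ) (inner P g) * embed S.U ((J3 : Matrix (Fin 3) (Fin 3) F) * S.Uᴴ) (inner P h)
    rw [embed_mul S.U _ (by rw [Matrix.mul_assoc, S.gram, J3_sq])]
    congr 1
    have hr : P.Q * (J3 : Matrix (Fin 3) (Fin 3) F) * P.Qᴴ = 1 := by rw [Matrix.mul_assoc]; exact P.right_inv
    calc (J3 : Matrix (Fin 3) (Fin 3) F) * P.Qᴴ * (g.1.1 * h.1.1) * P.Q
        = (J3 : Matrix (Fin 3) (Fin 3) F) * P.Qᴴ * g.1.1 * (P.Q * (J3 : Matrix (Fin 3) (Fin 3) F) * P.Qᴴ) * h.1.1 * P.Q := by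
          rw [hr]; simp only [Matrix.mul_one, Matrix.mul_assoc]
      _ = inner P g * inner P h := by simp only [inner, Matrix.mul_assoc]

theorem phi_lift (P : Frame F) (g : Cfsg.SU 3 F q) (x : Fin 3 → F) :
    act (S.phi hstar P g) (S.lift P x) = S.lift P (act g x) := by
  have h1 : embed S.U ((J3 : Matrix (Fin 3) (Fin 3) F) * S.Uᴴ) (inner P g) * S.U = S.U * inner P g := by
    simp only [embed, Matrix.add_mul, Matrix.one_mul, Matrix.mul_assoc, S.gram, J3_sq,
      Matrix.mul_one, Matrix.mul_sub, add_sub_cancel]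
  have h2 : inner P g * ((J3 : Matrix (Fin 3) (Fin 3) F) * P.Qᴴ) = (J3 : Matrix (Fin 3) (Fin 3) F) * P.Qᴴ * g.1.1 := by
    simp only [inner, Matrix.mul_assoc]
    rw [P.right_inv, Matrix.mul_one]
  change embed S.U ((J3 : Matrix (Fin 3) (Fin 3) F) * S.Uᴴ) (inner P g) *ᵥ (S.U *ᵥ (((J3 : Matrix (Fin 3) (Fin 3) F) * P.Qᴴ) *ᵥ x)) =
    S.U *ᵥ (((J3 : Matrix (Fin 3) (Fin 3) F) * P.Qᴴ) *ᵥ (g.1.1 *ᵥ x))
  simp only [Matrix.mulVec_mulVec]
  rw [← Matrix.mul_assoc, h1, Matrix.mul_assoc S.U, h2]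

theorem phi_perp (P : Frame F) (g : Cfsg.SU 3 F q) {x : Fin n → F} (hx : S.Uᴴ *ᵥ x = 0) :
    act (S.phi hstar P g) x = x := by
  change embed S.U ((J3 : Matrix (Fin 3) (Fin 3) F) * S.Uᴴ) (inner P g) *ᵥ x = x
  rw [embed, Matrix.add_mulVec, Matrix.one_mulVec, ← Matrix.mulVec_mulVec,
    ← Matrix.mulVec_mulVec x (J3 : Matrix (Fin 3) (Fin 3) F), hx, Matrix.mulVec_zero, Matrix.mulVec_zero, add_zero]

theorem phi_eich (P : Frame F) {e z : Fin 3 → F} {a : F} (h : EOk e z a) :
    S.phi hstar P (eich hstar e z a) = eich hstar (S.lift P e) (S.lift P z) a := by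
  have h' : EOk (S.lift P e) (S.lift P z) a := by
    refine ⟨?_, ?_, ?_⟩
    · rw [herm_lift]; exact h.1
    · rw [herm_lift]; exact h.2.1
    · rw [herm_lift]; exact h.2.2
  apply eq_of_act
  intro x
  have hsplit : x = S.lift P (P.Q *ᵥ (((J3 : Matrix (Fin 3) (Fin 3) F) * S.Uᴴ) *ᵥ x)) + (x - S.U *ᵥ (((J3 : Matrix (Fin 3) (Fin 3) F) * S.Uᴴ) *ᵥ x)) := by
    rw [lift, Matrix.mulVec_mulVec _ ((J3 : Matrix (Fin 3) (Fin 3) F) * P.Qᴴ), Matrix.mul_assoc, P.gram, J3_sq,
      Matrix.one_mulVec, add_sub_cancel]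
  have hperp : S.Uᴴ *ᵥ (x - S.U *ᵥ (((J3 : Matrix (Fin 3) (Fin 3) F) * S.Uᴴ) *ᵥ x)) = 0 := by
    rw [Matrix.mulVec_sub, Matrix.mulVec_mulVec, S.gram, Matrix.mulVec_mulVec, ← Matrix.mul_assoc (J3 : Matrix (Fin 3) (Fin 3) F) J3,
      J3_sq, Matrix.one_mul, sub_self]
  have hfix : ∀ y, S.Uᴴ *ᵥ y = 0 → act (eich hstar (S.lift P e) (S.lift P z) a) y = y := by
    intro y hy
    have h0 : ∀ v : Fin 3 → F, herm (S.lift P v) y = 0 := fun v => by
      rw [lift, herm, Matrix.star_mulVec, ← Matrix.dotProduct_mulVec, hy, dotProduct_zero]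
    rw [act_eich hstar h', h0, h0]
    simp
  rw [hsplit, act_add, act_add, phi_lift, phi_perp _ _ _ _ hperp, hfix _ hperp]
  congr 1
  rw [act_eich hstar h, act_eich hstar h', herm_lift, herm_lift]
  simp only [lift, Matrix.mulVec_add, Matrix.mulVec_smul]

theorem lift_e (P : Frame F) : S.lift P P.e = S.E := by simp [Frame.e, S.lift_co]
theorem lift_d (P : Frame F) : S.lift P P.d = S.D := by simp [Frame.d, S.lift_co]
theorem lift_f (P : Frame F) : S.lift P P.f = S.V := by simp [Frame.f, S.lift_co]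

theorem lift_smul (P : Frame F) (c : F) (x : Fin 3 → F) : S.lift P (c • x) = c • S.lift P x := by
  simp only [lift, Matrix.mulVec_smul]

end Sub

/-- An anisotropic vector orthogonal to a frame. -/
theorem exists_perp_aniso (hstar : ∀ x : F, star x = x ^ q) (hF : Fintype.card F = q ^ 2)
    (hn : 4 ≤ n) (S : Sub F n) : ∃ y : Fin n → F, S.Uᴴ *ᵥ y = 0 ∧ herm y y ≠ 0 := by
  by_contra hcon
  push Not at hcon
  let K : Submodule F (Fin n → F) := LinearMap.ker (Matrix.mulVecLin S.Uᴴ)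
  have hK : ∀ v, v ∈ K ↔ S.Uᴴ *ᵥ v = 0 := fun v => Iff.rfl
  obtain ⟨v, hv, hv0⟩ : ∃ v ∈ K, v ≠ 0 := by
    refine Submodule.exists_mem_ne_zero_of_ne_bot fun h => ?_
    have h1 := LinearMap.finrank_le_finrank_of_injective (LinearMap.ker_eq_bot.mp h)
    simp only [Module.finrank_fin_fun] at h1
    omega
  obtain ⟨k, hk⟩ : ∃ k, v k ≠ 0 := Function.ne_iff.mp hv0
  set x : Fin n → F := Pi.single k 1
  set w := x - S.U *ᵥ (((J3 : Matrix (Fin 3) (Fin 3) F) * S.Uᴴ) *ᵥ x) with hw
  have hwK : S.Uᴴ *ᵥ w = 0 := by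
    rw [hw, Matrix.mulVec_sub, Matrix.mulVec_mulVec, S.gram, Matrix.mulVec_mulVec, ← Matrix.mul_assoc (J3 : Matrix (Fin 3) (Fin 3) F) J3,
      J3_sq, Matrix.one_mul, sub_self]
  have hvw : herm v w = star (v k) := by
    rw [hw, herm_sub_right, herm_single_right, mul_one]
    rw [herm, Matrix.dotProduct_mulVec, ← Matrix.conjTranspose_conjTranspose S.U,
      ← Matrix.star_mulVec, (hK v).mp hv, star_zero, zero_dotProduct, sub_zero]
  obtain ⟨c, hc⟩ := Hermitian.exists_trace_ne hstar hF (h := herm v w)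
    (by rw [hvw]; exact star_ne_zero.mpr hk)
  apply hc
  have h1 := hcon (c • v + w) (by
    rw [Matrix.mulVec_add, Matrix.mulVec_smul, (hK v).mp hv, hwK, smul_zero, add_zero])
  rw [herm_add_left, herm_add_right, herm_add_right, herm_smul_left, herm_smul_left,
    herm_smul_right, herm_smul_right, hcon v ((hK v).mp hv), hcon w hwK, ← star_herm v w] at h1
  rw [star_mul', star_star]
  linear_combination h1

/-- Transitivity on frames. -/
theorem exists_map (hstar : ∀ x : F, star x = x ^ q) (hF : Fintype.card F = q ^ 2) (hn : 4 ≤ n)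
    (S T : Sub F n) :
    ∃ h : Cfsg.SU n F q, act h S.E = T.E ∧ act h S.D = T.D ∧ act h S.V = T.V := by
  classical
  obtain ⟨b, hb⟩ := Hermitian.exists_star_ne hstar hF
  let H : Small.Forms.Herm F (Fin n → F) :=
    { σ := starRingEnd F
      B := herm
      add_right := herm_add_right
      smul_right := herm_smul_right
      symm := fun u v => star_herm u v
      invol := fun a => star_star a
      nondeg := fun u hu => by
        obtain ⟨k, hk⟩ := Function.ne_iff.mp hu
        exact ⟨Pi.single k 1, by rw [herm_single_right, mul_one]; exact star_ne_zero.mpr hk⟩ }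
  have hσ : H.σ ≠ RingHom.id F := fun h => hb (RingHom.congr_fun h b)
  set L := Matrix.mulVecLin S.U with hL
  have hLinj : Function.Injective L := fun a c h => by
    have h1 := congrArg (fun v => ((J3 : Matrix (Fin 3) (Fin 3) F) * S.Uᴴ) *ᵥ v) h
    simp only [hL, Matrix.mulVecLin_apply, Matrix.mulVec_mulVec, Matrix.mul_assoc, S.gram, J3_sq,
      Matrix.one_mulVec] at h1
    exact h1
  let X := LinearMap.range L
  let f : X →ₗ[F] (Fin n → F) :=
    (Matrix.mulVecLin T.U).comp (LinearEquiv.ofInjective L hLinj).symm.toLinearMap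
  have hf : ∀ a, f ⟨L a, LinearMap.mem_range_self L a⟩ = T.U *ᵥ a := by
    intro a
    change T.U *ᵥ ((LinearEquiv.ofInjective L hLinj).symm ⟨L a, _⟩) = _
    congr 1
    rw [LinearEquiv.symm_apply_eq]
    exact Subtype.ext (LinearEquiv.ofInjective_apply ..).symm
  have hfinj : Function.Injective f := by
    intro a c h
    obtain ⟨a', rfl⟩ := (LinearEquiv.ofInjective L hLinj).surjective a
    obtain ⟨c', rfl⟩ := (LinearEquiv.ofInjective L hLinj).surjective c
    simp only [f, LinearMap.comp_apply, LinearEquiv.coe_coe, LinearEquiv.symm_apply_apply,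
      Matrix.mulVecLin_apply] at h
    have h1 := congrArg (fun v => ((J3 : Matrix (Fin 3) (Fin 3) F) * T.Uᴴ) *ᵥ v) h
    simp only [Matrix.mulVec_mulVec, Matrix.mul_assoc, T.gram, J3_sq, Matrix.one_mulVec] at h1
    rw [h1]
  obtain ⟨g, hg, hgf⟩ := Cfsg.Agent.Classical.HermWitt.witt H hσ X f hfinj (by
    rintro ⟨_, a, rfl⟩ ⟨_, c, rfl⟩
    change herm (f _) (f _) = herm (L a) (L c)
    rw [hf, hf, hL, Matrix.mulVecLin_apply, Matrix.mulVecLin_apply, Sub.herm_mulVec,
      Sub.herm_mulVec])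
  set A := LinearMap.toMatrix' g.toLinearMap with hA
  have hAv : ∀ v, A *ᵥ v = g v := fun v => LinearMap.toMatrix'_mulVec g.toLinearMap v
  have hAA : Aᴴ * A = 1 := by
    ext i j
    have h1 : (Aᴴ * A) i j = herm (g (Pi.single i 1)) (g (Pi.single j 1)) := by
      rw [← hAv, ← hAv, Matrix.mul_apply, herm, Matrix.mulVec_single_one,
        Matrix.mulVec_single_one, dotProduct]
      rfl
    rw [h1]
    refine (hg _ _).trans ?_
    change herm (Pi.single i 1) (Pi.single j 1) = _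
    rw [herm_single_left, star_one, one_mul, Matrix.one_apply, Pi.single_apply]
  obtain ⟨y, hyT, hyy⟩ := exists_perp_aniso hstar hF hn T
  set δ := A.det with hδ
  have hδδ : star δ * δ = 1 := by
    have := congrArg Matrix.det hAA
    rwa [Matrix.det_mul, Matrix.det_conjTranspose, Matrix.det_one] at this
  have hδ0 : δ ≠ 0 := fun h => by simp [h] at hδδ
  set k : F := (δ⁻¹ - 1) / herm y y with hk
  set R := transMat y k with hR
  have hRR : Rᴴ * R = 1 := by
    have h1 : Rᴴ = transMat y (star k) := by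
      simp [hR, transMat, Matrix.conjTranspose_vecMulVec]
    refine ext_mulVec fun v => ?_
    rw [h1, ← Matrix.mulVec_mulVec, hR, transMat_mulVec, transMat_mulVec, herm_add_right,
      herm_smul_right, Matrix.one_mulVec]
    have hs : star k = (δ - 1) / herm y y := by
      rw [hk, star_div₀, star_sub, star_inv₀, star_one, star_herm,
        inv_eq_of_mul_eq_one_right hδδ]
    have h0 : k + star k + star k * k * herm y y = 0 := by
      rw [hs, hk]; field_simp; ring
    rw [add_assoc, ← add_smul]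
    convert add_zero v using 2
    rw [show (k * herm y v + star k * (herm y v + k * herm y v * herm y y)) = 0 by
      linear_combination (herm y v) * h0, zero_smul]
  have hRd : R.det = δ⁻¹ := by
    rw [hR, transMat, ← Matrix.smul_vecMulVec, Matrix.vecMulVec_eq Unit,
      Matrix.det_one_add_replicateCol_mul_replicateRow, dotProduct_smul]
    change 1 + k • herm y y = δ⁻¹
    rw [smul_eq_mul, hk, div_mul_cancel₀ _ hyy, add_sub_cancel]
  refine ⟨mkSU hstar (R * A) ?_ (by rw [Matrix.det_mul, hRd, ← hδ, inv_mul_cancel₀ hδ0]), ?_⟩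
  · rw [Matrix.conjTranspose_mul, Matrix.mul_assoc, ← Matrix.mul_assoc Rᴴ, hRR, Matrix.one_mul, hAA]
  have key : ∀ a, (R * A) *ᵥ (S.U *ᵥ a) = T.U *ᵥ a := by
    intro a
    have h2 : A *ᵥ (S.U *ᵥ a) = T.U *ᵥ a := by
      rw [hAv, ← hf a]
      exact hgf ⟨L a, LinearMap.mem_range_self L a⟩
    have h3 : herm y (T.U *ᵥ a) = 0 := by
      rw [herm, Matrix.dotProduct_mulVec, ← Matrix.conjTranspose_conjTranspose T.U,
        ← Matrix.star_mulVec, hyT, star_zero, zero_dotProduct]
    rw [← Matrix.mulVec_mulVec, h2, hR, transMat_mulVec, h3, mul_zero, zero_smul, add_zero]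
  exact ⟨key _, key _, key _⟩

end Cfsg.Agent.Small.Generation.SUThree
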