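import Cfsg.Agent.Lib.Small.Generation.SUThree.Params
import Cfsg.Agent.Lib.Small.Generation.SUThree.ConstructTwo

/-!
`SU_n(q)`, `n` odd, is generated by three conjugate regular unipotent elements.
-/

set_option autoImplicit false
set_option linter.unusedSectionVars false
set_option linter.style.haveILetI false

namespace Cfsg.Agent.Small.Generation.SUThree

open Cfsg.Agent.Small

theorem exists_three {F : Type*} [Field F] [Fintype F] (q : ℕ) (hF : Fintype.card F = q ^ 2) (n : ℕ)
    (hn : 3 ≤ n) (hodd : Odd n) (h32 : ¬ (n = 3 ∧ q = 2)) :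
    ∃ u g h : ↥(Cfsg.SU n F q),
      (IsNilpotent (u.1.1 - 1) ∧ (u.1.1 - 1) ^ (n - 1) ≠ 0) ∧
      Subgroup.closure ({u, g * u * g⁻¹, h * u * h⁻¹} : Set ↥(Cfsg.SU n F q)) = ⊤ := by
  have hq2 : 2 ≤ q := by
    by_contra h
    have h1 := Fintype.one_lt_card (α := F)
    rw [hF] at h1
    interval_cases q <;> simp at h1
  rcases eq_or_ne n 3 with rfl | hn3
  · obtain ⟨u, g, hreg, htop⟩ := TwoReg.exists_two q (F := F)
      (by by_contra h; exact h32 ⟨rfl, by omega⟩) hF
    refine ⟨u, g, 1, hreg, eq_top_iff.mpr (htop ▸ Subgroup.closure_mono ?_)⟩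
    intro x hx
    rcases hx with rfl | rfl <;> simp
  obtain ⟨l, rfl⟩ := hodd
  obtain ⟨p, hchar⟩ := CharP.exists F
  haveI := hchar
  obtain ⟨m, hp, hm⟩ := FiniteField.card F p
  obtain ⟨a, -, hqa⟩ := (Nat.dvd_prime_pow hp).mp
    (show q ∣ p ^ (m : ℕ) by rw [← hm, hF]; exact dvd_pow_self _ (by norm_num))
  haveI : Fact p.Prime := ⟨hp⟩
  let σ : F →+* F := iterateFrobenius F p a
  have hσ : ∀ x, σ x = x ^ q := fun x => by rw [hqa]; exact iterateFrobenius_def ..
  letI : StarRing F := Hermitian.starRingOfInvolution σ fun x => by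
    rw [hσ, hσ, ← pow_mul, ← sq, ← hF, FiniteField.pow_card]
  have hstar : ∀ x : F, star x = x ^ q := hσ
  rcases Nat.lt_or_ge q 3 with hq | hq
  · exact three_of_two (hstar := hstar) hF (by omega) (show 2 ≤ l by omega)
  obtain ⟨a', z, R, t, f1, f2, hseed, hR, ht, ht0, ht1, hf1, hat, hf2, hgood⟩ :
      Params hstar l := by
    rcases Nat.lt_or_ge q 4 with hq4 | hq4
    · exact params_three hF (by omega) l
    · exact params_large hF hq4 l
  exact three_of_params hF (show 2 ≤ l by omega) hseed hR ht ht0 ht1 hf1 hat hf2 hgood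

end Cfsg.Agent.Small.Generation.SUThree
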