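import Cfsg.Agent.Lib.Small.Generation.SUThree.Seq
import Cfsg.Agent.Lib.Small.Unitary.Eichler

/-!
A regular unipotent element of `SU_{2l+1}(q)` with prescribed Gram sequence, as multiplication by `X`
on polynomials modulo `(X - 1)^(2l+1)`.
-/

set_option autoImplicit false
set_option linter.unusedSectionVars false

namespace Cfsg.Agent.Small.Generation.SUThree

open Matrix Polynomial Cfsg.Agent.Small.Unitary

variable {F : Type*} [Field F] [Fintype F] [StarRing F] {q : ℕ}

theorem det_one_of_nilpotent {m : ℕ} {M : Matrix (Fin m) (Fin m) F} (h : IsNilpotent (M - 1)) :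
    M.det = 1 := by
  have h1 : (M - 1).charpoly = X ^ m := by
    have := (Matrix.isNilpotent_charpoly_sub_pow_of_isNilpotent h).eq_zero
    rwa [sub_eq_zero, Fintype.card_fin] at this
  have h2 := Matrix.eval_charpoly (M - 1) (-1 : F)
  rw [h1, eval_pow, eval_X,
    show Matrix.scalar (Fin m) (-1 : F) - (M - 1) = -M by
      rw [map_neg, map_one]; abel,
    Matrix.det_neg, Fintype.card_fin] at h2
  exact mul_left_cancel₀ (pow_ne_zero m (neg_ne_zero.mpr one_ne_zero)) (h2.symm.trans (mul_one _).symm)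

/-- A model: `u` is multiplication by `X`, the form is the pairing. -/
structure Model (q : ℕ) (f : ℤ → F) (n : ℕ) where
  /-- The coordinates. -/
  psi : F[X] →ₗ[F] (Fin n → F)
  /-- The element. -/
  u : Cfsg.SU n F q
  herm_psi : ∀ R P, herm (psi R) (psi P) = pr f R P
  surj : Function.Surjective psi
  act_psi : ∀ R, act u (psi R) = psi (X * R)
  ker : ∀ R, psi R = 0 ↔ (X - 1) ^ n ∣ R

theorem exists_model (hstar : ∀ x : F, star x = x ^ q) (hF : Fintype.card F = q ^ 2) (z : ℕ → F)
    {l : ℕ} (hl : 1 ≤ l) (hT : z (l - 1) + star (z (l - 1)) ≠ 0) :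
    Nonempty (Model q (fs z l) (2 * l + 1)) := by
  classical
  set n := 2 * l + 1 with hn
  set f := fs z l with hf
  set T : F := z (l - 1) + star (z (l - 1)) with hTd
  set Q : F[X] := (X - 1) ^ n with hQd
  have hQm : Q.Monic := by rw [hQd, ← map_one C]; exact (monic_X_sub_C 1).pow n
  have hQdeg : Q.natDegree = n := by
    rw [hQd, ← map_one C, natDegree_pow, natDegree_X_sub_C, mul_one]
  have hQf : aeval sh Q f = 0 := by
    rw [hQd, map_pow, map_sub, aeval_X, map_one]
    exact delta_kill z hl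
  have hsym : ∀ k, f (-k) = star (f k) := fun k => fs_neg z l k
  have hQl : ∀ A P, pr f (Q * A) P = 0 := fun A P => by
    rw [← pr_star hsym, pr_annihil hQf, star_zero]
  have hmodR : ∀ R P, pr f R (P %ₘ Q) = pr f R P := fun R P => by
    conv_rhs => rw [← modByMonic_add_div P Q, pr_add_right, pr_annihil hQf, add_zero]
  have hmodL : ∀ R P, pr f (R %ₘ Q) P = pr f R P := fun R P => by
    conv_rhs => rw [← modByMonic_add_div R Q, pr_add_left, hQl, add_zero]
  -- the radical is an ideal
  have hXu : ∀ R : F[X], ∃ R' A : F[X], R = X * R' + Q * A := by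
    intro R
    obtain ⟨a, b, hab⟩ : IsCoprime (X : F[X]) Q := by
      rw [hQd]
      refine IsCoprime.pow_right ⟨1, -1, by ring⟩
    exact ⟨a * R, b * R, by linear_combination -R * hab⟩
  let K : Ideal F[X] :=
    { carrier := {P | ∀ R, pr f R P = 0}
      zero_mem' := fun R => by simp [pr]
      add_mem' := fun {a b} ha hb R => by rw [pr_add_right, ha, hb, add_zero]
      smul_mem' := fun c P hP => by
        have hX : ∀ P : F[X], (∀ R, pr f R P = 0) → ∀ R, pr f R (X * P) = 0 := by
          intro P hP R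
          obtain ⟨R', A, rfl⟩ := hXu R
          rw [pr_add_left, pr_X, hP, hQl, add_zero]
        have hXp : ∀ j : ℕ, ∀ R, pr f R (X ^ j * P) = 0 := by
          intro j
          induction j with
          | zero => simpa using hP
          | succ j ih => intro R; rw [pow_succ', mul_assoc]; exact hX _ ih R
        intro R
        rw [smul_eq_mul]
        induction c using Polynomial.induction_on' with
        | add a b ha hb => rw [add_mul, pr_add_right, ha, hb, add_zero]
        | monomial j a =>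
          rw [← C_mul_X_pow_eq_monomial, mul_assoc, ← smul_eq_C_mul, pr_smul_right, hXp, mul_zero] }
  have hrad : ∀ P : F[X], P ∈ K → Q ∣ P := by
    intro P hP
    obtain ⟨g, hg⟩ := (IsPrincipalIdealRing.principal K).principal
    have hmemK : ∀ A, A ∈ K ↔ g ∣ A := fun A => by
      rw [hg, Ideal.submodule_span_eq, Ideal.mem_span_singleton]
    have hQK : Q ∈ K := fun R => by rw [← mul_one Q, pr_annihil hQf]
    have hgQ := (hmemK Q).mp hQK
    have hprime : Prime ((X : F[X]) - 1) := by rw [← map_one C]; exact prime_X_sub_C 1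
    obtain ⟨d, hd, hassoc⟩ := (dvd_prime_pow hprime n).mp hgQ
    rcases Nat.lt_or_ge d n with h | h
    · exfalso
      have hmem : ((X : F[X]) - 1) ^ (2 * l) ∈ K :=
        (hmemK _).mpr (hassoc.dvd.trans (pow_dvd_pow _ (by omega)))
      have h1 := hmem 1
      apply hT
      rw [pr, Polynomial.map_one, map_one, Module.End.one_apply, map_pow, map_sub, aeval_X,
        map_one] at h1
      have h2 := congrFun (delta_top z hl) 0
      rw [dl] at h2
      exact h2.symm.trans h1
    · obtain rfl : d = n := by omega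
      exact hassoc.symm.dvd.trans ((hmemK P).mp hP)
  -- Gram matrix
  set M : Matrix (Fin n) (Fin n) F := Matrix.of fun i j => f ((j : ℤ) - (i : ℤ)) with hM
  have hMh : Mᴴ = M := by
    ext i j
    rw [Matrix.conjTranspose_apply, hM, Matrix.of_apply, Matrix.of_apply, ← hsym, neg_sub]
  let poly : (Fin n → F) → F[X] := fun a => ∑ i : Fin n, monomial (i : ℕ) (a i)
  have hpolydeg : ∀ a, (poly a).degree < Q.degree := fun a => by
    rw [degree_eq_natDegree hQm.ne_zero, hQdeg]
    simp only [poly, ← C_mul_X_pow_eq_monomial]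
    exact degree_sum_fin_lt _
  have hpolycoeff : ∀ a (i : Fin n), (poly a).coeff i = a i := by
    intro a i
    simp [poly, coeff_monomial, Fin.val_inj]
  have hsum : ∀ a b : Fin n → F, pr f (poly a) (poly b) = star a ⬝ᵥ (M *ᵥ b) := by
    intro a b
    have hl' : ∀ (P : F[X]) (s : Finset (Fin n)),
        pr f (∑ i ∈ s, monomial (i : ℕ) (a i)) P = ∑ i ∈ s, pr f (monomial (i : ℕ) (a i)) P := by
      intro P s
      induction s using Finset.induction_on with
      | empty => simp [pr]
      | insert i s hi ih => rw [Finset.sum_insert hi, Finset.sum_insert hi, pr_add_left, ih]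
    have hr' : ∀ (R : F[X]) (s : Finset (Fin n)),
        pr f R (∑ i ∈ s, monomial (i : ℕ) (b i)) = ∑ i ∈ s, pr f R (monomial (i : ℕ) (b i)) := by
      intro R s
      induction s using Finset.induction_on with
      | empty => simp [pr]
      | insert i s hi ih => rw [Finset.sum_insert hi, Finset.sum_insert hi, pr_add_right, ih]
    simp only [poly, hl', hr', pr_monomial, dotProduct, Matrix.mulVec, hM, Matrix.of_apply,
      Pi.star_apply, Finset.mul_sum]
    exact Finset.sum_congr rfl fun i _ => Finset.sum_congr rfl fun j _ => by ring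
  have hMu : IsUnit M := by
    rw [← Matrix.mulVec_injective_iff_isUnit]
    intro a b hab
    refine sub_eq_zero.mp ?_
    have h0 : M *ᵥ (a - b) = 0 := by rw [Matrix.mulVec_sub, sub_eq_zero]; exact hab
    generalize a - b = c at h0
    have hcK : poly c ∈ K := by
      intro R
      rw [← hmodL]
      have : R %ₘ Q = poly fun i => (R %ₘ Q).coeff i := by
        conv_lhs => rw [as_sum_range' (R %ₘ Q) n (by
          have := natDegree_modByMonic_lt R hQm (fun h => by
            have := congrArg natDegree h; simp [hQdeg, hn] at this)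
          rwa [hQdeg] at this), Finset.sum_range]
      rw [this, hsum, h0, dotProduct_zero]
    have hz := eq_zero_of_dvd_of_degree_lt (hrad _ hcK) (hpolydeg c)
    funext i
    rw [← hpolycoeff c i, hz, coeff_zero, Pi.zero_apply]
  obtain ⟨P0, ⟨P1, rfl⟩, hP⟩ := Hermitian.exists_congr_one hstar hF n M hMh hMu
  set R0 : Matrix (Fin n) (Fin n) F := ((P1⁻¹ : GL (Fin n) F) : Matrix (Fin n) (Fin n) F) with hR0
  have hRR : R0ᴴ * R0 = M := by
    calc R0ᴴ * R0 = R0ᴴ * ((P1 : Matrix (Fin n) (Fin n) F)ᴴ * M * P1) * R0 := by rw [hP, mul_one]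
      _ = ((P1 : Matrix (Fin n) (Fin n) F) * R0)ᴴ * M * ((P1 : Matrix (Fin n) (Fin n) F) * R0) := by
        rw [conjTranspose_mul]; simp only [mul_assoc]
      _ = M := by rw [hR0, P1.mul_inv, conjTranspose_one, one_mul, mul_one]
  let psi : F[X] →ₗ[F] (Fin n → F) :=
    { toFun := fun R => R0 *ᵥ fun i => (R %ₘ Q).coeff i
      map_add' := fun R P => by
        rw [← Matrix.mulVec_add]; congr 1; funext i; simp [add_modByMonic]
      map_smul' := fun c R => by
        rw [RingHom.id_apply, ← Matrix.mulVec_smul]; congr 1; funext i; simp [smul_modByMonic] }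
  have hmoddeg : ∀ R : F[X], (R %ₘ Q).natDegree < n := fun R => by
    have := natDegree_modByMonic_lt R hQm (fun h => by
      have := congrArg natDegree h; simp [hQdeg, hn] at this)
    rwa [hQdeg] at this
  have hmodpoly : ∀ R : F[X], poly (fun i => (R %ₘ Q).coeff i) = R %ₘ Q := fun R => by
    conv_rhs => rw [as_sum_range' (R %ₘ Q) n (hmoddeg R), Finset.sum_range]
  have hhp : ∀ R P, herm (psi R) (psi P) = pr f R P := by
    intro R P
    change star (R0 *ᵥ _) ⬝ᵥ (R0 *ᵥ _) = _
    rw [Matrix.star_mulVec, ← Matrix.dotProduct_mulVec, Matrix.mulVec_mulVec, hRR, ← hsum, hmodpoly,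
      hmodpoly, hmodL, hmodR]
  have hpsi_poly : ∀ a, psi (poly a) = R0 *ᵥ a := fun a => by
    change R0 *ᵥ _ = _
    congr 1
    funext i
    rw [(modByMonic_eq_self_iff hQm).mpr (hpolydeg a), hpolycoeff]
  have hsurj : Function.Surjective psi := fun x =>
    ⟨poly ((P1 : Matrix (Fin n) (Fin n) F) *ᵥ x), by
      rw [hpsi_poly, Matrix.mulVec_mulVec, hR0, P1.inv_mul, Matrix.one_mulVec]⟩
  have hker : ∀ R, psi R = 0 ↔ Q ∣ R := by
    intro R
    rw [← modByMonic_eq_zero_iff_dvd hQm]
    constructor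
    · intro h
      have h1 := congrArg (fun v => (P1 : Matrix (Fin n) (Fin n) F) *ᵥ v) h
      change _ *ᵥ (R0 *ᵥ _) = _ *ᵥ 0 at h1
      rw [Matrix.mulVec_mulVec, hR0, P1.mul_inv, Matrix.one_mulVec, Matrix.mulVec_zero] at h1
      rw [← hmodpoly R, h1]
      simp [poly]
    · intro h
      change R0 *ᵥ _ = 0
      rw [h]
      simp only [coeff_zero]
      exact Matrix.mulVec_zero _
  let L : (Fin n → F) →ₗ[F] (Fin n → F) :=
    { toFun := fun x => psi (X * poly ((P1 : Matrix (Fin n) (Fin n) F) *ᵥ x))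
      map_add' := fun x y => by
        simp only [Matrix.mulVec_add, poly, Pi.add_apply, map_add, Finset.sum_add_distrib, mul_add]
      map_smul' := fun c x => by
        have e : ∀ a, X * poly (c • a) = c • (X * poly a) := fun a => by
          simp only [poly, Pi.smul_apply, smul_eq_mul, smul_eq_C_mul, Finset.mul_sum]
          exact Finset.sum_congr rfl fun i _ => by rw [← C_mul_monomial]; ring
        rw [RingHom.id_apply, Matrix.mulVec_smul, e, map_smul] }
  set Lm := LinearMap.toMatrix' L with hLm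
  have hL : ∀ R, Lm *ᵥ psi R = psi (X * R) := by
    intro R
    rw [hLm, LinearMap.toMatrix'_mulVec]
    change psi (X * poly ((P1 : Matrix (Fin n) (Fin n) F) *ᵥ (R0 *ᵥ _))) = _
    rw [Matrix.mulVec_mulVec, hR0, P1.mul_inv, Matrix.one_mulVec, hmodpoly, ← sub_eq_zero, ← map_sub,
      hker, ← mul_sub]
    refine Dvd.dvd.mul_left ?_ _
    exact ⟨-(R /ₘ Q), by linear_combination modByMonic_add_div R Q⟩
  have hiso : Lmᴴ * Lm = 1 := by
    ext i j
    have h1 : (Lmᴴ * Lm) i j = herm (Lm *ᵥ Pi.single i 1) (Lm *ᵥ Pi.single j 1) := by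
      rw [Matrix.mul_apply, herm, Matrix.mulVec_single_one, Matrix.mulVec_single_one, dotProduct]
      rfl
    obtain ⟨R, hR⟩ := hsurj (Pi.single i 1)
    obtain ⟨P, hP'⟩ := hsurj (Pi.single j 1)
    rw [h1, ← hR, ← hP', hL, hL, hhp, pr_X, ← hhp, hR, hP', herm_single_left, star_one, one_mul,
      Matrix.one_apply, Pi.single_apply]
  have hLsub : ∀ (k : ℕ) R, (Lm - 1) ^ k *ᵥ psi R = psi ((X - 1) ^ k * R) := by
    intro k
    induction k with
    | zero => intro R; simp
    | succ k ih =>
      intro R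
      rw [pow_succ, ← Matrix.mulVec_mulVec, Matrix.sub_mulVec, hL, Matrix.one_mulVec, ← map_sub, ih,
        pow_succ]
      congr 1
      ring
  have hnil : IsNilpotent (Lm - 1) := ⟨n, by
    refine Unitary.ext_mulVec fun x => ?_
    obtain ⟨R, rfl⟩ := hsurj x
    rw [hLsub, Matrix.zero_mulVec, hker]
    exact Dvd.intro R rfl⟩
  exact ⟨⟨psi, mkSU hstar Lm hiso (det_one_of_nilpotent hnil), hhp, hsurj, fun R => hL R, hker⟩⟩

namespace Model

variable {f : ℤ → F} {n : ℕ} (M : Model q f n)

theorem act_pow (k : ℕ) (R : F[X]) : act (M.u ^ k) (M.psi R) = M.psi (X ^ k * R) := by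
  induction k generalizing R with
  | zero => simp [act_one]
  | succ k ih => rw [pow_succ, act_mul, M.act_psi, ih, pow_succ]; ring_nf

theorem sub_pow_mulVec (k : ℕ) (R : F[X]) :
    (M.u.1.1 - 1) ^ k *ᵥ M.psi R = M.psi ((X - 1) ^ k * R) := by
  induction k generalizing R with
  | zero => simp
  | succ k ih =>
    rw [pow_succ, ← Matrix.mulVec_mulVec, Matrix.sub_mulVec, Matrix.one_mulVec,
      show M.u.1.1 *ᵥ M.psi R = M.psi (X * R) from M.act_psi R, ← map_sub, ih, pow_succ]
    congr 1
    ring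

theorem regular (hn : 1 ≤ n) :
    IsNilpotent (M.u.1.1 - 1) ∧ (M.u.1.1 - 1) ^ (n - 1) ≠ 0 := by
  refine ⟨⟨n, Unitary.ext_mulVec fun x => ?_⟩, fun h => ?_⟩
  · obtain ⟨R, rfl⟩ := M.surj x
    rw [sub_pow_mulVec, Matrix.zero_mulVec, M.ker]
    exact Dvd.intro R rfl
  · have h1 := sub_pow_mulVec M (n - 1) 1
    rw [h, Matrix.zero_mulVec, eq_comm, M.ker, mul_one] at h1
    rw [← map_one Polynomial.C] at h1
    have h2 := (pow_dvd_pow_iff (prime_X_sub_C (1 : F)).ne_zero (prime_X_sub_C (1 : F)).not_isUnit).mp h1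
    omega

/-- The fixed vector. -/
noncomputable def e₀ : Fin n → F := M.psi ((X - 1) ^ (n - 1))

/-- The base vector. -/
noncomputable def w : Fin n → F := M.psi 1

theorem act_pow_w (k : ℕ) : act (M.u ^ k) M.w = M.psi (X ^ k) := by
  rw [w, act_pow, mul_one]

theorem herm_w (i j : ℕ) : herm (act (M.u ^ i) M.w) (act (M.u ^ j) M.w) = f ((j : ℤ) - i) := by
  rw [act_pow_w, act_pow_w, M.herm_psi, X_pow_eq_monomial, X_pow_eq_monomial, pr_monomial]
  simp

theorem act_e₀ (hn : 1 ≤ n) : act M.u M.e₀ = M.e₀ := by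
  rw [e₀, M.act_psi, ← sub_eq_zero, ← map_sub, M.ker]
  refine ⟨1, ?_⟩
  conv_rhs => rw [← Nat.sub_add_cancel hn, pow_succ]
  ring

theorem fixed (hn : 1 ≤ n) (x : Fin n → F) (hx : act M.u x = x) : ∃ c : F, x = c • M.e₀ := by
  obtain ⟨R, rfl⟩ := M.surj x
  rw [M.act_psi, ← sub_eq_zero, ← map_sub, M.ker,
    show X * R - R = (X - 1) * R by ring] at hx
  obtain ⟨A, hA⟩ := hx
  have hR : R = (X - 1) ^ (n - 1) * A := by
    apply mul_left_cancel₀ (a := (X : F[X]) - 1) (by rw [← map_one C]; exact X_sub_C_ne_zero 1)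
    rw [hA, ← mul_assoc, ← pow_succ', Nat.sub_add_cancel hn]
  refine ⟨A.eval 1, ?_⟩
  rw [e₀, ← map_smul, ← sub_eq_zero, ← map_sub, M.ker, hR, smul_eq_C_mul]
  obtain ⟨B, hB⟩ := X_sub_C_dvd_sub_C_eval (a := (1 : F)) (p := A)
  refine ⟨B, ?_⟩
  conv_rhs => rw [← Nat.sub_add_cancel hn, pow_succ]
  rw [map_one] at hB
  linear_combination ((X : F[X]) - 1) ^ (n - 1) * hB

/-- The orbit of the base vector spans. -/
theorem span_w : Submodule.span F (Set.range fun k : ℕ => act (M.u ^ k) M.w) = ⊤ := by
  rw [eq_top_iff]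
  intro x _
  obtain ⟨R, rfl⟩ := M.surj x
  induction R using Polynomial.induction_on' with
  | add R P h h' => rw [map_add]; exact Submodule.add_mem _ (h trivial) (h' trivial)
  | monomial k a =>
    rw [show monomial k a = a • (X : F[X]) ^ k by rw [smul_eq_C_mul, C_mul_X_pow_eq_monomial],
      map_smul, ← act_pow_w]
    exact Submodule.smul_mem _ _ (Submodule.subset_span ⟨k, rfl⟩)

end Model

end Cfsg.Agent.Small.Generation.SUThree
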