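import Cfsg.Agent.Lib.Small.Generation.SUThree.SeedSpecial

/-!
Seeds exist for every `q ≥ 3`.
-/

set_option autoImplicit false
set_option linter.unusedSectionVars false
set_option linter.style.haveILetI false

namespace Cfsg.Agent.Small.Generation.SUThree

open Cfsg.Agent.Small Cfsg.Agent.Small.Generation.TwoReg

theorem exists_seed {F : Type*} [Field F] [Fintype F] [StarRing F] {q : ℕ}
    (hstar : ∀ x : F, star x = x ^ q) (hq : 3 ≤ q) (hF : Fintype.card F = q ^ 2) : Seed hstar := by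
  classical
  obtain ⟨p, m, hp, hm⟩ : ∃ p m : ℕ, p.Prime ∧ Fintype.card F = p ^ m := by
    obtain ⟨p, hchar⟩ := CharP.exists F
    haveI := hchar
    obtain ⟨m, h1, h2⟩ := FiniteField.card F p
    exact ⟨p, m, h1, h2⟩
  obtain ⟨a, -, hqa⟩ := (Nat.dvd_prime_pow hp).mp
    (show q ∣ p ^ m by rw [← hm, hF]; exact dvd_pow_self _ (by norm_num))
  have hma : m = a * 2 := Nat.pow_right_injective hp.two_le
    (by change p ^ m = p ^ (a * 2); rw [← hm, hF, hqa, ← pow_mul])
  haveI : Fact p.Prime := ⟨hp⟩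
  haveI : CharP F p := charP_of_card_eq_prime_pow (R := F) (p := p) (f := a * 2)
    (by rw [hm, hma])
  obtain ⟨P⟩ := exists_frame hstar hF
  have hcast : ((p : ℕ) : F) = 0 := CharP.cast_eq_zero F p
  by_cases h5 : q = 5
  · obtain rfl : p = 5 := by
      have : p ∣ 5 := by
        rw [← h5, hqa]; exact dvd_pow_self _ (by rintro rfl; simp [hqa] at h5)
      exact (Nat.prime_dvd_prime_iff_eq hp (by norm_num)).mp this
    have hp' : (5 : F) = 0 := by exact_mod_cast hcast
    obtain ⟨x, hx⟩ := exists_root_five (F := F) (by rw [hF, h5]; norm_num) hp'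
    exact seed_five (hstar := hstar) hF h5 P hx hp'
  by_cases h8 : q = 8
  · obtain rfl : p = 2 := by
      have : p ∣ 2 ^ 3 := by
        rw [show 2 ^ 3 = p ^ a by rw [← hqa, h8]; norm_num]
        exact dvd_pow_self _ (by rintro rfl; simp [hqa] at h8)
      exact (Nat.prime_dvd_prime_iff_eq hp Nat.prime_two).mp (hp.dvd_of_dvd_pow this)
    have hp' : (2 : F) = 0 := by exact_mod_cast hcast
    obtain ⟨x, hx⟩ := exists_root_eight (F := F) (by rw [hF, h8]; norm_num) hp'
    exact seed_eight (hstar := hstar) hF h8 P hx hp'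
  obtain ⟨γ, hγ⟩ := IsCyclic.exists_generator (α := Fˣ)
  have hord : orderOf γ = (q + 1) * (q - 1) := by
    rw [orderOf_eq_card_of_forall_mem_zpowers hγ, Nat.card_units, Nat.card_eq_fintype_card, hF,
      Hermitian.sq_sub_one]
  set M : Fˣ := γ ^ (q - 1) with hMd
  have hM : orderOf M = q + 1 := by
    rw [hMd, orderOf_pow' _ (by omega), hord, Nat.gcd_eq_right (Dvd.intro_left _ rfl),
      Nat.mul_div_cancel _ (by omega)]
  set μ : F := (M : F) with hμd
  have hμ0 : μ ≠ 0 := Units.ne_zero M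
  have hμs : star μ * μ = 1 := Hermitian.star_mul_self_of_pow hstar (by
    rw [hμd, ← Units.val_pow_eq_pow_val, ← hM, pow_orderOf_eq_one, Units.val_one])
  have hμ1 : 1 + μ ≠ 0 := fun h => by
    have h2 : M ^ 2 = 1 := Units.ext (by
      rw [Units.val_pow_eq_pow_val, Units.val_one, ← hμd]; linear_combination (μ - 1) * h)
    have := Nat.le_of_dvd (by norm_num) (orderOf_dvd_of_pow_eq_one h2)
    omega
  have hμs0 : star μ ≠ 0 := star_ne_zero.mpr hμ0
  have hμs1 : 1 + star μ ≠ 0 := fun h => hμ1 (by linear_combination μ * h - hμs)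
  set c : F := -μ / (1 + μ) with hc
  have hcs : star c = -1 / (1 + μ) := by
    rw [hc, star_div₀, star_neg, star_add, star_one]
    field_simp
    linear_combination -hμs
  have hc0 : c ≠ 0 := div_ne_zero (neg_ne_zero.mpr hμ0) hμ1
  have hcc : c / star c = μ := by
    rw [hcs, hc]
    field_simp
  refine ⟨_, _, _, seed_general (hstar := hstar) hF (by omega) P (c := c) ?_ hc0 ?_⟩
  · rw [hcs, hc]
    field_simp
    ring
  rw [hcc, show star μ * star μ / μ = ((M ^ 3)⁻¹ : Fˣ) by
    rw [Units.val_inv_eq_inv_val, Units.val_pow_eq_pow_val, ← hμd]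
    field_simp
    linear_combination (star μ * μ + 1) * hμs]
  refine gen_of_pow hp hm fun d k hdk hk h => ?_
  have h1 : M ^ (3 * (p ^ d - 1)) = 1 := by
    have h2 : ((M ^ 3)⁻¹) ^ (p ^ d) = (M ^ 3)⁻¹ := Units.ext (by
      rw [Units.val_pow_eq_pow_val]; exact h)
    rw [inv_pow, inv_inj] at h2
    rw [pow_mul]
    refine mul_right_cancel (b := M ^ 3) ?_
    rw [← pow_succ, Nat.sub_add_cancel (Nat.one_le_pow _ _ hp.pos), one_mul, h2]
  have hdvd := orderOf_dvd_of_pow_eq_one h1
  rw [hM] at hdvd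
  obtain ⟨X, hX⟩ : ∃ X, X = p ^ d := ⟨_, rfl⟩
  rw [← hX] at hdvd
  have hXk : X ^ k = q ^ 2 := by
    rw [hX, ← pow_mul, hdk, ← hm, hF]
  have hd0 : d ≠ 0 := by
    rintro rfl
    rw [zero_mul] at hdk
    have : q ^ 2 = 1 := by rw [← hF, hm, ← hdk, pow_zero]
    nlinarith
  have hX2 : 2 ≤ X := by rw [hX]; exact le_trans hp.two_le (Nat.le_self_pow hd0 p)
  rcases Nat.lt_or_ge k 3 with hk3 | hk3
  · obtain rfl : k = 2 := by omega
    have hXq : X = q := Nat.pow_left_injective (by norm_num) hXk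
    rw [hXq] at hdvd
    have h6 : q + 1 ∣ 6 := by
      have := Nat.dvd_sub (Dvd.intro_left 3 rfl : q + 1 ∣ 3 * (q + 1)) hdvd
      rwa [show 3 * (q + 1) - 3 * (q - 1) = 6 by omega] at this
    have hsmall : ∀ t : ℕ, 3 ≤ t → t ≠ 5 → ¬ t + 1 ∣ 6 := fun t ht ht5 h => by
      have hle : t + 1 ≤ 6 := Nat.le_of_dvd (by norm_num) h
      have hle2 : t ≤ 5 := by omega
      interval_cases t <;> first | exact ht5 rfl | norm_num at h
    exact hsmall q hq h5 h6
  have hlt := Nat.le_of_dvd (by omega) hdvd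
  rcases Nat.lt_or_ge k 4 with hk4 | hk4
  · obtain rfl : k = 3 := by omega
    -- `q = y ^ 3`, `X = y ^ 2`
    have hda : d * 3 = a * 2 := by omega
    obtain ⟨f, hf⟩ : 2 ∣ d := by omega
    have haf : a = f * 3 := by omega
    set y := p ^ f with hy
    have hXy : X = y ^ 2 := by rw [hX, hy, hf, ← pow_mul, mul_comm 2 f]
    have hqy : q = y ^ 3 := by rw [hqa, hy, haf, ← pow_mul]
    have hy2 : 2 ≤ y := le_trans hp.two_le (Nat.le_self_pow (by omega) p)
    have hy3 : 3 ≤ y := by
      by_contra hh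
      have hy' : y = 2 := by omega
      apply h8
      rw [hqy, hy']; norm_num
    have hsub : X - 1 + 1 = X := by omega
    rw [hqy, hXy] at hlt
    have : y ^ 2 - 1 + 1 = y ^ 2 := Nat.sub_add_cancel (Nat.one_le_pow _ _ (by omega))
    nlinarith
  · have hsq : X ^ 2 ≤ q := by
      have h1 : (X ^ 2) ^ 2 ≤ q ^ 2 := by
        rw [← hXk, ← pow_mul]; exact Nat.pow_le_pow_right (by omega) hk4
      exact (Nat.pow_le_pow_iff_left (by norm_num)).mp h1
    have : X - 1 + 1 = X := by omega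
    nlinarith

end Cfsg.Agent.Small.Generation.SUThree
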