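import Cfsg.Agent.Lib.Small.Generation.SUThree.Construct
import Cfsg.Agent.Lib.Small.Generation.SUThree.SeedExists

/-!
The parameters of the construction exist for every `q ≥ 3`.
-/

set_option autoImplicit false
set_option linter.unusedSectionVars false
set_option linter.style.haveILetI false

namespace Cfsg.Agent.Small.Generation.SUThree

open Polynomial Cfsg.Agent.Small Cfsg.Agent.Small.Unitary

variable {F : Type*} [Field F] [Fintype F] [StarRing F] {q : ℕ}

/-- The fixed elements. -/
theorem exists_fixed (hstar : ∀ x : F, star x = x ^ q) (hF : Fintype.card F = q ^ 2) :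
    ∃ s : Finset F, s.card = q ∧ ∀ x ∈ s, star x = x := by
  classical
  have hq := Hermitian.q_two_le hF
  obtain ⟨γ, hγ⟩ := IsCyclic.exists_generator (α := Fˣ)
  have hord : orderOf (γ ^ (q + 1)) = q - 1 := by
    rw [orderOf_pow' _ (by omega), orderOf_eq_card_of_forall_mem_zpowers hγ, Nat.card_units,
      Nat.card_eq_fintype_card, hF, Hermitian.sq_sub_one,
      Nat.gcd_eq_right (Dvd.intro _ rfl), Nat.mul_div_cancel_left _ (by omega)]
  set δ := γ ^ (q + 1) with hδ
  refine ⟨insert 0 ((Finset.range (q - 1)).image fun i => ((δ ^ i : Fˣ) : F)), ?_, ?_⟩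
  · rw [Finset.card_insert_of_notMem, Finset.card_image_of_injOn, Finset.card_range]
    · omega
    · intro i hi j hj h
      simp only [Finset.coe_range, Set.mem_Iio] at hi hj
      exact pow_injOn_Iio_orderOf (by rw [hord]; exact hi) (by rw [hord]; exact hj) (Units.ext h)
    · intro h
      obtain ⟨i, -, hi⟩ := Finset.mem_image.mp h
      exact Units.ne_zero _ hi
  · intro x hx
    rcases Finset.mem_insert.mp hx with rfl | hx
    · exact star_zero F
    obtain ⟨i, -, rfl⟩ := Finset.mem_image.mp hx
    rw [hstar, ← Units.val_pow_eq_pow_val]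
    congr 1
    conv_lhs => rw [← Nat.sub_add_cancel (show 1 ≤ q by omega), pow_succ, ← pow_mul, mul_comm i,
      pow_mul, ← hord, pow_orderOf_eq_one, one_pow, one_mul]

/-- Parameters for the construction. -/
def Params (hstar : ∀ x : F, star x = x ^ q) (l : ℕ) : Prop :=
  ∃ a z R t f1 f2 : F, SeedW hstar a z R ∧ R ≠ 0 ∧ star t = t ∧ t ≠ 0 ∧ t ≠ 1 ∧
    f1 + star f1 = -1 ∧ a * (t - 1) = t * f1 - star f1 ∧
    f2 = (1 - star R * R / (z * z * z)) / (star f1 * f1) *
      ((f1 + star f1 * f1) * (f1 + star f1 * f1)) - star f1 * f1 ∧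
    (l = 2 → f2 + star f2 + 4 ≠ 0)

theorem params_three {hstar : ∀ x : F, star x = x ^ q} (hF : Fintype.card F = q ^ 2) (hq : q = 3)
    (l : ℕ) : Params hstar l := by
  subst hq
  have hp : (3 : F) = 0 := by
    haveI : CharP F 3 := charP_of_card_eq_prime_pow (R := F) (p := 3) (f := 2) hF
    exact_mod_cast CharP.cast_eq_zero F 3
  obtain ⟨P⟩ := Cfsg.Agent.Small.Generation.TwoReg.exists_frame hstar hF
  obtain ⟨θ, hθ0, hθ⟩ := exists_skew hstar hF
  have hθ2 : θ * θ = -1 := by
    have h2 : θ ^ 2 = -1 := by
      have h : star θ = θ ^ 3 := hstar θ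
      rw [hθ] at h
      have : θ * (θ ^ 2 + 1) = 0 := by linear_combination -h
      exact eq_neg_of_add_eq_zero_left ((mul_eq_zero.mp this).resolve_left hθ0)
    rw [← h2]; ring
  have h1 : (1 : F) ≠ 0 := one_ne_zero
  have h2 : (2 : F) ≠ 0 := fun h => h1 (by linear_combination hp - h)
  set c : F := 1 + θ with hc
  have hcs : star c = 1 - θ := by rw [hc, star_add, star_one, hθ]; ring
  have hN : c * star c = 2 := by rw [hcs, hc]; linear_combination -hθ2
  have hcc : c + star c = -1 := by rw [hcs, hc]; linear_combination hp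
  have hc0 : c ≠ 0 := fun h => h2 (by rw [← hN, h, zero_mul])
  have hcs0 : star c ≠ 0 := star_ne_zero.mpr hc0
  have hgen : TwoReg.Gen (star (c / star c) * star (c / star c) / (c / star c)) := by
    refine TwoReg.gen_of_pow (p := 3) (m := 2) (by norm_num) hF fun d k hdk hk h => ?_
    obtain ⟨rfl, -⟩ : d = 1 ∧ k = 2 := by
      have hd : d ≤ 1 := by nlinarith
      interval_cases d
      · simp at hdk
      · exact ⟨rfl, by omega⟩
    have e : star (c / star c) * star (c / star c) / (c / star c) = θ ∨
        star (c / star c) * star (c / star c) / (c / star c) = -θ := by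
      have hμ : c / star c = θ ∨ c / star c = -θ := by
        left
        rw [div_eq_iff hcs0, hcs, hc]
        linear_combination hθ2
      rcases hμ with hμ | hμ <;> rw [hμ]
      · left; rw [hθ]; field_simp
      · right; rw [star_neg, hθ]; field_simp
    have hne : ∀ y : F, y * y = -1 → y ^ (3 ^ 1) ≠ y := fun y hy h => by
      have : y * (y * y - 1) = 0 := by linear_combination h
      rcases mul_eq_zero.mp this with h' | h'
      · rw [h', mul_zero] at hy; exact neg_ne_zero.mpr h1 hy.symm
      · rw [hy] at h'; exact h2 (by linear_combination -h')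
    rcases e with e | e <;> rw [e] at h
    · exact hne θ hθ2 h
    · exact hne (-θ) (by rw [neg_mul_neg, hθ2]) h
  have hseed := seed_general (hstar := hstar) hF (by norm_num) P hcc hc0 hgen
  rw [hN] at hseed
  have hcN : star c * c = 2 := by rw [mul_comm, hN]
  refine ⟨_, _, _, -1, 1, -1, hseed, ?_, by simp, neg_ne_zero.mpr h1, fun h => h2 (by linear_combination -h),
    by rw [star_one]; linear_combination hp, ?_, ?_, fun _ => ?_⟩
  · exact div_ne_zero (mul_ne_zero hc0 (fun h => h1 (by linear_combination -h))) (mul_ne_zero h2 h2)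
  · rw [hcs, hc, star_one]; linear_combination (-2 * θ) * hp
  · have hR : star (c * (1 - 2) / (2 * 2)) * (c * (1 - 2) / (2 * 2)) = 2 := by
      simp only [star_div₀, star_mul', star_sub, star_one, star_ofNat]
      field_simp
      linear_combination hcN - 10 * hp
    rw [hR, star_one]
    field_simp
    linear_combination 20 * hp
  · rw [star_neg, star_one]
    exact fun h => h2 (by linear_combination h)

theorem params_large {hstar : ∀ x : F, star x = x ^ q} (hF : Fintype.card F = q ^ 2) (hq : 4 ≤ q)
    (l : ℕ) : Params hstar l := by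
  classical
  obtain ⟨a, z, R₀, ha, hz, hz0, P, hP⟩ := exists_seed hstar (by omega) hF
  obtain ⟨s, hs, hsfix⟩ := exists_fixed hstar hF
  -- the torus parameter
  obtain ⟨t, hts, htn⟩ : ∃ t ∈ s, t ∉ ({0, 1, -1} : Finset F) := by
    refine Finset.exists_mem_notMem_of_card_lt_card ?_
    have := Finset.card_le_three (a := (0 : F)) (b := 1) (c := -1)
    omega
  simp only [Finset.mem_insert, Finset.mem_singleton, not_or] at htn
  obtain ⟨ht0, ht1, htm⟩ := htn
  have ht := hsfix t hts
  have htp : t + 1 ≠ 0 := fun h => htm (eq_neg_of_add_eq_zero_left h)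
  obtain ⟨f1, hf1d⟩ : ∃ x, x = (a * (t - 1) - 1) / (t + 1) := ⟨_, rfl⟩
  have hf1 : f1 + star f1 = -1 := by
    rw [hf1d, star_div₀, star_sub, star_mul', star_sub, star_add, star_one, ht]
    field_simp
    linear_combination (t - 1) * ha
  have hat : a * (t - 1) = t * f1 - star f1 := by
    rw [show star f1 = -1 - f1 by linear_combination hf1, hf1d]
    field_simp
    ring
  set m := star f1 * f1 with hm
  have hms : star m = m := by rw [hm, star_mul', star_star, mul_comm]
  have hf10 : f1 ≠ 0 := fun h => by
    rw [h, star_zero, add_zero] at hf1; exact neg_ne_zero.mpr one_ne_zero hf1.symm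
  have hm0 : m ≠ 0 := mul_ne_zero (star_ne_zero.mpr hf10) hf10
  set G := (f1 + m) * (f1 + m) + star ((f1 + m) * (f1 + m)) with hG
  have hGe : G = 2 * (m * m) - 4 * m + 1 := by
    rw [hG, star_mul', star_add, hms, show star f1 = -1 - f1 by linear_combination hf1]
    have hq1 : f1 * f1 + f1 + m = 0 := by
      rw [hm, show star f1 = -1 - f1 by linear_combination hf1]; ring
    linear_combination 2 * hq1
  -- the shift
  obtain ⟨k, hks, hkR, hkg⟩ : ∃ k ∈ s, R₀ + k ≠ 0 ∧
      (1 - (star R₀ + k) * (R₀ + k) / (z * z * z)) / m * G - 2 * m + 4 ≠ 0 := by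
    by_cases hG0 : G = 0
    · obtain ⟨k, hk, hk'⟩ := Finset.exists_mem_notMem_of_card_lt_card
        (show ({-R₀} : Finset F).card < s.card by rw [Finset.card_singleton]; omega)
      refine ⟨k, hk, fun h => hk' (Finset.mem_singleton.mpr (eq_neg_of_add_eq_zero_right h)), ?_⟩
      rw [hG0, mul_zero, zero_sub]
      intro h
      apply one_ne_zero (α := F)
      rw [hGe] at hG0
      linear_combination hG0 + m * h
    · set K := z * z * z * (1 - (2 * m - 4) * m / G) with hK
      set Q : F[X] := (X + C R₀) * ((X + C (star R₀)) * (X + C R₀) - C K) with hQ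
      have hQd : Q.natDegree ≤ 3 := by rw [hQ]; compute_degree
      have hQ0 : Q ≠ 0 := by
        intro h
        have h3 : Q.coeff 3 = 1 := by
          rw [hQ, show (X + C R₀) * ((X + C (star R₀)) * (X + C R₀) - C K) = X ^ 3 +
            (C (2 * R₀ + star R₀) * X ^ 2 + C (R₀ * R₀ + 2 * R₀ * star R₀ - K) * X +
              C (R₀ * R₀ * star R₀ - R₀ * K)) by simp only [map_add, map_sub, map_mul, map_ofNat]; ring]
          simp [add_mul, mul_assoc, coeff_C_mul]
        rw [h, coeff_zero] at h3
        exact zero_ne_one h3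
      obtain ⟨k, hk, hk'⟩ := Finset.exists_mem_notMem_of_card_lt_card
        (show Q.roots.toFinset.card < s.card by
          have h1 := Multiset.toFinset_card_le Q.roots
          have h2 := Q.card_roots'
          omega)
      rw [Multiset.mem_toFinset, mem_roots hQ0, IsRoot] at hk'
      simp only [hQ, eval_mul, eval_sub, eval_add, eval_X, eval_C] at hk'
      refine ⟨k, hk, fun h => hk' (by rw [show k + R₀ = 0 by rw [add_comm]; exact h, zero_mul]), ?_⟩
      intro h
      apply hk'
      rw [show (k + star R₀) * (k + R₀) - K = 0 by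
        rw [hK]
        field_simp at h ⊢
        linear_combination -h, mul_zero]
  have hk := hsfix k hks
  refine ⟨a, z, R₀ + k, t, f1, _, ⟨ha, hz, hz0, P, ?_⟩, hkR, ht, ht0, ht1, hf1, hat, rfl, fun _ => ?_⟩
  · rw [show z * z * a + (R₀ + k) - star (R₀ + k) = z * z * a + R₀ - star R₀ by
      rw [star_add, hk]; ring]
    exact hP
  · intro h
    apply hkg
    simp only [star_sub, star_mul', star_div₀, star_add, star_one, star_star, hz, hk] at h
    simp only [hG, hm, star_add, star_mul', star_star]
    linear_combination h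

end Cfsg.Agent.Small.Generation.SUThree
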