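import Cfsg.Agent.Lib.Small.Generation.SUThree.SeedBase
import Cfsg.Agent.Lib.Small.Generation.TwoReg.Special

/-!
Explicit parameters for the fields of `25` and `64` elements.
-/

set_option autoImplicit false
set_option linter.unusedSectionVars false
set_option linter.unusedSimpArgs false

namespace Cfsg.Agent.Small.Generation.SUThree

open Matrix Cfsg.Agent.Small.Unitary Cfsg.Agent.Small.Generation.TwoReg

variable {F : Type*} [Field F] [Fintype F] [StarRing F] {q : ℕ}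

/-- The field of `25` elements. -/
theorem seed_five {hstar : ∀ x : F, star x = x ^ q} (hF : Fintype.card F = q ^ 2) (hq : q = 5)
    (P : Frame F) {x : F} (hP : x ^ 2 + 3 * x + 3 = 0) (hp : (5 : F) = 0) : Seed hstar := by
  have f1 : x ^ 5 = 2 + 4 * x := by
    linear_combination (-9 + 6 * x - 3 * x ^ 2 + x ^ 3) * hP + (5 + x) * hp
  have hx : star x = 2 + 4 * x := by rw [hstar, hq]; exact f1
  have s_a : star (2 * x : F) = 4 + 3 * x := by
    simp only [star_add, star_sub, star_neg, star_mul', star_pow, star_one, star_ofNat, hx]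
    linear_combination (x) * hp
  have s_z : star (2 : F) = 2 := by
    simp only [star_add, star_sub, star_neg, star_mul', star_pow, star_one, star_ofNat, hx]
  have s_b : star (4 + 4 * x : F) = 2 + x := by
    simp only [star_add, star_sub, star_neg, star_mul', star_pow, star_one, star_ofNat, hx]
    linear_combination (2 + 3 * x) * hp
  have s_mu : star (x : F) = 2 + 4 * x := by
    simp only [star_add, star_sub, star_neg, star_mul', star_pow, star_one, star_ofNat, hx]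
  have s_s : star (3 : F) = 3 := by
    simp only [star_add, star_sub, star_neg, star_mul', star_pow, star_one, star_ofNat, hx]
  have s_r : star (3 * x : F) = 1 + 2 * x := by
    simp only [star_add, star_sub, star_neg, star_mul', star_pow, star_one, star_ofNat, hx]
    linear_combination (1 + 2 * x) * hp
  have hs : (3 : F) ≠ 0 := left_ne_zero_of_mul_eq_one (b := 2) (by linear_combination (1) * hp)
  have hμ : (x : F) ≠ 0 := left_ne_zero_of_mul_eq_one (b := 4 + 3 * x) (by linear_combination (3) * hP + (-2 - x) * hp)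
  have ha : (2 * x : F) + star (2 * x : F) + 1 = 0 := by
    rw [s_a]
    linear_combination (1 + x) * hp
  suffices h : SeedW hstar (2 * x : F) (2) (3 * x) from ⟨_, _, _, h⟩
  refine seed_of_data (hstar := hstar) hF (by omega) P (a := 2 * x) (s := 3) (z := 2) (b := 4 + 4 * x)
    (μ := x) ha hs s_s (3 * x) ?_ ?_ hμ ?_ ?_
  · rw [s_s, eq_neg_iff_add_eq_zero, add_div_eq_mul_add_div _ _ hs, div_eq_zero_iff]
    left
    linear_combination (3) * hp
  · rw [s_s, s_r]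
    linear_combination (1 - 3 * x) * hp
  · rw [s_mu, show (2 + 4 * x : F) * (2 + 4 * x) / (x) = 2 + 3 * x by
      rw [div_eq_iff hμ]
      linear_combination (13) * hP + (-7 - 5 * x) * hp]
    refine gen_of_pow (p := 5) (m := 2) (by norm_num) (by simp [hF, hq]) fun d k hdk hk h => ?_
    have hd : d ≤ 1 := by nlinarith
    interval_cases d
    · omega
    · rw [show (2 + 3 * x : F) ^ (5 ^ 1) = 3 + 2 * x by
          norm_num
          linear_combination (153 + 108 * x + 81 * x ^ 2 + 243 * x ^ 3) * hP + (-86 - 109 * x) * hp] at h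
      refine zero_ne_one (α := F) ?_
      rw [← zero_mul (2 + 3 * x : F), ← sub_eq_zero.mpr h]
      linear_combination (-3) * hP + (2 + 2 * x) * hp
  intro hb G hu hv
  have ha1 : (2 * x : F) + star (2 * x : F) + star (1 : F) * 1 = 0 := by rw [star_one, mul_one]; exact ha
  have e0 : act (eich hstar P.f (((2 : F)) • P.d) (4 + 4 * x))
      (P.co (1) (0) (0)) = P.co (1) (2) (4 + 4 * x) := by
    rw [P.act_lo hstar hb, s_z]
    refine co_congr P ?_ ?_ ?_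
    · ring
    · ring
    · ring
  have e1 : act (eich hstar P.e ((1 : F) • P.d) (2 * x))
      (P.co (1) (2) (4 + 4 * x)) = P.co (4 * x) (1 + 4 * x) (4 + 4 * x) := by
    rw [P.act_up hstar ha1, star_one]
    refine co_congr P ?_ ?_ ?_
    · linear_combination (8) * hP + (-5 - 4 * x) * hp
    · linear_combination (1) * hp
    · ring
  have e2 : act (eich hstar P.f (((2 : F)) • P.d) (4 + 4 * x))
      (P.co (4 * x) (1 + 4 * x) (4 + 4 * x)) = P.co (4 * x) (1 + 2 * x) (4 + 4 * x) := by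
    rw [P.act_lo hstar hb, s_z]
    refine co_congr P ?_ ?_ ?_
    · ring
    · linear_combination (2 * x) * hp
    · linear_combination (16) * hP + (-10 - 8 * x) * hp
  have e3 : act (eich hstar P.e ((1 : F) • P.d) (2 * x))
      (P.co (4 * x) (1 + 2 * x) (4 + 4 * x)) = P.co (x) (x) (4 + 4 * x) := by
    rw [P.act_up hstar ha1, star_one]
    refine co_congr P ?_ ?_ ?_
    · linear_combination (8) * hP + (-5 - 3 * x) * hp
    · linear_combination (1 + x) * hp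
    · ring
  have e4 : act (eich hstar P.f (((2 : F)) • P.d) (4 + 4 * x))
      (P.co (x) (x) (4 + 4 * x)) = P.co (x) (3 * x) (2 + 4 * x) := by
    rw [P.act_lo hstar hb, s_z]
    refine co_congr P ?_ ?_ ?_
    · ring
    · ring
    · linear_combination (4) * hP + (-2 - 2 * x) * hp
  have e5 : act (eich hstar P.f (((2 : F)) • P.d) (4 + 4 * x))
      (P.co (x) (3 * x) (2 + 4 * x)) = P.co (x) (0) (0) := by
    rw [P.act_lo hstar hb, s_z]
    refine co_congr P ?_ ?_ ?_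
    · ring
    · linear_combination (x) * hp
    · linear_combination (4) * hP + (-2 - 2 * x) * hp
  refine ⟨_, (mul_mem (mul_mem (mul_mem (mul_mem (mul_mem hv hv) hu) hv) hu) hv), ?_⟩
  change act _ (P.co 1 0 0) = _ • P.co 1 0 0
  rw [act_mul, act_mul, act_mul, act_mul, act_mul, e0, e1, e2, e3, e4, e5, P.co_smul]
  simp only [mul_one, mul_zero]

/-- The field of `64` elements. -/
theorem seed_eight {hstar : ∀ x : F, star x = x ^ q} (hF : Fintype.card F = q ^ 2) (hq : q = 8)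
    (P : Frame F) {x : F} (hP : x ^ 6 + x ^ 5 + 1 = 0) (hp : (2 : F) = 0) : Seed hstar := by
  have f1 : x ^ 2 = x ^ 2 := by
    ring
  have f2 : x ^ 4 = x ^ 4 := by
    rw [show 4 = 2 * 2 from rfl, pow_mul, f1]
  have f3 : x ^ 8 = 1 + x + x ^ 2 + x ^ 5 := by
    rw [show 8 = 4 * 2 from rfl, pow_mul, f2]
    linear_combination (1 - x + x ^ 2) * hP + (-1 - x ^ 2 - x ^ 5) * hp
  have hx : star x = 1 + x + x ^ 2 + x ^ 5 := by rw [hstar, hq]; exact f3
  have s_a : star (x + x ^ 2 + x ^ 4 : F) = 1 + x + x ^ 2 + x ^ 4 := by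
    simp only [star_add, star_sub, star_neg, star_mul', star_pow, star_one, star_ofNat, hx]
    linear_combination (16 + 2 * x + 17 * x ^ 2 + 10 * x ^ 3 + 11 * x ^ 4 + 7 * x ^ 5 + 6 * x ^ 6 + 11 * x ^ 7 + 2 * x ^ 8 + 3 * x ^ 9 + x ^ 10 + 3 * x ^ 11 + x ^ 12 - x ^ 13 + x ^ 14) * hP + (-7 + 2 * x - 2 * x ^ 2 + 4 * x ^ 3 + 4 * x ^ 4) * hp
  have s_z : star (x + x ^ 3 : F) = x + x ^ 3 := by
    simp only [star_add, star_sub, star_neg, star_mul', star_pow, star_one, star_ofNat, hx]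
    linear_combination (4 + x + 7 * x ^ 2 + 2 * x ^ 4 + x ^ 5 + 2 * x ^ 6 + x ^ 7 - x ^ 8 + x ^ 9) * hP + (-1 + x + 3 * x ^ 3 + 2 * x ^ 4 + x ^ 5) * hp
  have s_b : star (x ^ 3 : F) = 1 + x ^ 2 + x ^ 3 + x ^ 5 := by
    simp only [star_add, star_sub, star_neg, star_mul', star_pow, star_one, star_ofNat, hx]
    linear_combination (4 + x + 7 * x ^ 2 + 2 * x ^ 4 + x ^ 5 + 2 * x ^ 6 + x ^ 7 - x ^ 8 + x ^ 9) * hP + (-2 + x - x ^ 2 + 3 * x ^ 3 + 2 * x ^ 4) * hp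
  have s_mu : star (x + x ^ 2 + x ^ 4 : F) = 1 + x + x ^ 2 + x ^ 4 := by
    simp only [star_add, star_sub, star_neg, star_mul', star_pow, star_one, star_ofNat, hx]
    linear_combination (16 + 2 * x + 17 * x ^ 2 + 10 * x ^ 3 + 11 * x ^ 4 + 7 * x ^ 5 + 6 * x ^ 6 + 11 * x ^ 7 + 2 * x ^ 8 + 3 * x ^ 9 + x ^ 10 + 3 * x ^ 11 + x ^ 12 - x ^ 13 + x ^ 14) * hP + (-7 + 2 * x - 2 * x ^ 2 + 4 * x ^ 3 + 4 * x ^ 4) * hp
  have s_s : star (x + x ^ 3 : F) = x + x ^ 3 := by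
    simp only [star_add, star_sub, star_neg, star_mul', star_pow, star_one, star_ofNat, hx]
    linear_combination (4 + x + 7 * x ^ 2 + 2 * x ^ 4 + x ^ 5 + 2 * x ^ 6 + x ^ 7 - x ^ 8 + x ^ 9) * hP + (-1 + x + 3 * x ^ 3 + 2 * x ^ 4 + x ^ 5) * hp
  have s_r : star (x ^ 4 : F) = x + x ^ 3 + x ^ 4 := by
    simp only [star_add, star_sub, star_neg, star_mul', star_pow, star_one, star_ofNat, hx]
    linear_combination (15 + x + 16 * x ^ 2 + 11 * x ^ 3 + 10 * x ^ 4 + 7 * x ^ 5 + 6 * x ^ 6 + 11 * x ^ 7 + 2 * x ^ 8 + 3 * x ^ 9 + x ^ 10 + 3 * x ^ 11 + x ^ 12 - x ^ 13 + x ^ 14) * hP + (-7 + x - 3 * x ^ 2 + 2 * x ^ 3 + 4 * x ^ 4 - x ^ 5) * hp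
  have hs : (x + x ^ 3 : F) ≠ 0 := left_ne_zero_of_mul_eq_one (b := 1 + x + x ^ 2 + x ^ 3 + x ^ 5) (by linear_combination (3 - x + x ^ 2) * hP + (-2 + x + x ^ 3 + x ^ 4 - x ^ 5) * hp)
  have hμ : (x + x ^ 2 + x ^ 4 : F) ≠ 0 := left_ne_zero_of_mul_eq_one (b := x + x ^ 5) (by linear_combination (-1 + 2 * x - x ^ 2 + x ^ 3) * hP + (-x + x ^ 2 + x ^ 5) * hp)
  have ha : (x + x ^ 2 + x ^ 4 : F) + star (x + x ^ 2 + x ^ 4 : F) + 1 = 0 := by
    rw [s_a]
    linear_combination (1 + x + x ^ 2 + x ^ 4) * hp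
  suffices h : SeedW hstar (x + x ^ 2 + x ^ 4 : F) (x + x ^ 3) (x ^ 4) from ⟨_, _, _, h⟩
  refine seed_of_data (hstar := hstar) hF (by omega) P (a := x + x ^ 2 + x ^ 4) (s := x + x ^ 3) (z := x + x ^ 3) (b := x ^ 3)
    (μ := x + x ^ 2 + x ^ 4) ha hs s_s (x ^ 4) ?_ ?_ hμ ?_ ?_
  · rw [s_s, eq_neg_iff_add_eq_zero, add_div_eq_mul_add_div _ _ hs, div_eq_zero_iff]
    left
    linear_combination (2) * hP + (-1 + x ^ 2 + 2 * x ^ 4 - x ^ 5) * hp
  · rw [s_s, s_r]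
    linear_combination (-6 + 3 * x - 4 * x ^ 2 + x ^ 3 - x ^ 4) * hP + (3 - x + 2 * x ^ 2 + 2 * x ^ 5) * hp
  · rw [s_mu, show (1 + x + x ^ 2 + x ^ 4 : F) * (1 + x + x ^ 2 + x ^ 4) / (x + x ^ 2 + x ^ 4) = x ^ 2 + x ^ 4 + x ^ 5 by
      rw [div_eq_iff hμ]
      linear_combination (1 - 2 * x + x ^ 2 - x ^ 3) * hP + (2 * x + x ^ 2 + x ^ 3 + x ^ 4) * hp]
    refine gen_of_pow (p := 2) (m := 6) (by norm_num) (by simp [hF, hq]) fun d k hdk hk h => ?_
    have hd : d ≤ 3 := by nlinarith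
    interval_cases d
    · omega
    · rw [show (x ^ 2 + x ^ 4 + x ^ 5 : F) ^ (2 ^ 1) = x ^ 3 by
          norm_num
          linear_combination (2 * x + x ^ 3 + x ^ 4) * hP + (-x - x ^ 3) * hp] at h
      refine zero_ne_one (α := F) ?_
      rw [← zero_mul (1 + x ^ 2 + x ^ 3 + x ^ 4 : F), ← sub_eq_zero.mpr h]
      linear_combination (-1 - x ^ 2 - x ^ 3) * hP + (x ^ 3 - x ^ 4) * hp
    · rw [show (x ^ 2 + x ^ 4 + x ^ 5 : F) ^ (2 ^ 2) = 1 + x ^ 5 by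
          norm_num
          linear_combination (1 - 4 * x ^ 2 - 4 * x ^ 4 - x ^ 6 + 4 * x ^ 7 + 5 * x ^ 8 + 4 * x ^ 9 + 8 * x ^ 10 + 5 * x ^ 11 + 3 * x ^ 12 + 3 * x ^ 13 + x ^ 14) * hP + (-1 + 2 * x ^ 2 + 2 * x ^ 4 - x ^ 5) * hp] at h
      refine zero_ne_one (α := F) ?_
      rw [← zero_mul (1 + x + x ^ 2 + x ^ 3 : F), ← sub_eq_zero.mpr h]
      linear_combination (-x) * hP + (x - x ^ 4 - x ^ 5) * hp
    · rw [show (x ^ 2 + x ^ 4 + x ^ 5 : F) ^ (2 ^ 3) = x + x ^ 2 + x ^ 3 + x ^ 4 + x ^ 5 by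
          norm_num
          linear_combination (64 - 33 * x + 33 * x ^ 2 - 9 * x ^ 3 - 7 * x ^ 4 - x ^ 5 - 31 * x ^ 6 - 24 * x ^ 8 + 16 * x ^ 9 + 8 * x ^ 10 + 32 * x ^ 11 + 31 * x ^ 12 + 24 * x ^ 13 + 8 * x ^ 14 - 24 * x ^ 15 - 39 * x ^ 16 - 63 * x ^ 17 - 47 * x ^ 18 - 24 * x ^ 19 + 44 * x ^ 20 + 119 * x ^ 21 + 186 * x ^ 22 + 278 * x ^ 23 + 309 * x ^ 24 + 316 * x ^ 25 + 313 * x ^ 26 + 255 * x ^ 27 + 194 * x ^ 28 + 141 * x ^ 29 + 83 * x ^ 30 + 43 * x ^ 31 + 21 * x ^ 32 + 7 * x ^ 33 + x ^ 34) * hP + (-32 + 16 * x - 17 * x ^ 2 + 4 * x ^ 3 + 3 * x ^ 4 - 32 * x ^ 5) * hp] at h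
      refine zero_ne_one (α := F) ?_
      rw [← zero_mul (1 + x + x ^ 2 + x ^ 3 + x ^ 5 : F), ← sub_eq_zero.mpr h]
      linear_combination (3 - x + x ^ 2) * hP + (-2 + x + x ^ 3 + x ^ 4 - x ^ 5) * hp
  intro hb G hu hv
  have ha1 : (x + x ^ 2 + x ^ 4 : F) + star (x + x ^ 2 + x ^ 4 : F) + star (1 : F) * 1 = 0 := by rw [star_one, mul_one]; exact ha
  have e0 : act (eich hstar P.f (((x + x ^ 3 : F)) • P.d) (x ^ 3))
      (P.co (1) (0) (0)) = P.co (1) (x + x ^ 3) (x ^ 3) := by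
    rw [P.act_lo hstar hb, s_z]
    refine co_congr P ?_ ?_ ?_
    · ring
    · ring
    · ring
  have e1 : act (eich hstar P.e ((1 : F) • P.d) (x + x ^ 2 + x ^ 4))
      (P.co (1) (x + x ^ 3) (x ^ 3)) = P.co (x ^ 3 + x ^ 4) (x) (x ^ 3) := by
    rw [P.act_up hstar ha1, star_one]
    refine co_congr P ?_ ?_ ?_
    · linear_combination (-1 + x) * hP + (1 - x - x ^ 3 + x ^ 5) * hp
    · linear_combination (x ^ 3) * hp
    · ring
  have e2 : act (eich hstar P.f (((x + x ^ 3 : F)) • P.d) (x ^ 3))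
      (P.co (x ^ 3 + x ^ 4) (x) (x ^ 3)) = P.co (x ^ 3 + x ^ 4) (x ^ 4 + x ^ 5) (x + x ^ 2 + x ^ 3 + x ^ 4) := by
    rw [P.act_lo hstar hb, s_z]
    refine co_congr P ?_ ?_ ?_
    · ring
    · linear_combination (x) * hP
    · linear_combination (x) * hP + (-x - x ^ 2 - x ^ 4) * hp
  have e3 : act (eich hstar P.e ((1 : F) • P.d) (x + x ^ 2 + x ^ 4))
      (P.co (x ^ 3 + x ^ 4) (x ^ 4 + x ^ 5) (x + x ^ 2 + x ^ 3 + x ^ 4)) = P.co (x ^ 3) (x + x ^ 2 + x ^ 3 + x ^ 5) (x + x ^ 2 + x ^ 3 + x ^ 4) := by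
    rw [P.act_up hstar ha1, star_one]
    refine co_congr P ?_ ?_ ?_
    · linear_combination (2 + x ^ 2) * hP + (-1 + x ^ 3 + x ^ 4) * hp
    · linear_combination (x ^ 4) * hp
    · ring
  have e4 : act (eich hstar P.f (((x + x ^ 3 : F)) • P.d) (x ^ 3))
      (P.co (x ^ 3) (x + x ^ 2 + x ^ 3 + x ^ 5) (x + x ^ 2 + x ^ 3 + x ^ 4)) = P.co (x ^ 3) (1 + x + x ^ 2 + x ^ 3 + x ^ 4) (x ^ 2 + x ^ 4 + x ^ 5) := by
    rw [P.act_lo hstar hb, s_z]
    refine co_congr P ?_ ?_ ?_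
    · ring
    · linear_combination (1) * hP + (-1) * hp
    · linear_combination (-2 + x - x ^ 2) * hP + (1 - x ^ 4) * hp
  have e5 : act (eich hstar P.f (((x + x ^ 3 : F)) • P.d) (x ^ 3))
      (P.co (x ^ 3) (1 + x + x ^ 2 + x ^ 3 + x ^ 4) (x ^ 2 + x ^ 4 + x ^ 5)) = P.co (x ^ 3) (x + x ^ 2 + x ^ 3 + x ^ 5) (1 + x ^ 4) := by
    rw [P.act_lo hstar hb, s_z]
    refine co_congr P ?_ ?_ ?_
    · ring
    · linear_combination (1) * hP + (x ^ 4 - x ^ 5) * hp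
    · linear_combination (1 - x) * hP + (-1 - x ^ 3 - x ^ 4 - x ^ 5) * hp
  have e6 : act (eich hstar P.e ((1 : F) • P.d) (x + x ^ 2 + x ^ 4))
      (P.co (x ^ 3) (x + x ^ 2 + x ^ 3 + x ^ 5) (1 + x ^ 4)) = P.co (x + x ^ 2 + x ^ 4) (1 + x + x ^ 2 + x ^ 3 + x ^ 4 + x ^ 5) (1 + x ^ 4) := by
    rw [P.act_up hstar ha1, star_one]
    refine co_congr P ?_ ?_ ?_
    · linear_combination (2 - x + x ^ 2) * hP + (-1 - x ^ 2 - x ^ 5) * hp
    · ring
    · ring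
  have e7 : act (eich hstar P.f (((x + x ^ 3 : F)) • P.d) (x ^ 3))
      (P.co (x + x ^ 2 + x ^ 4) (1 + x + x ^ 2 + x ^ 3 + x ^ 4 + x ^ 5) (1 + x ^ 4)) = P.co (x + x ^ 2 + x ^ 4) (0) (0) := by
    rw [P.act_lo hstar hb, s_z]
    refine co_congr P ?_ ?_ ?_
    · ring
    · linear_combination (-1 + x) * hP + (1 + x ^ 2 + x ^ 3 + x ^ 4 + 2 * x ^ 5) * hp
    · linear_combination (-3 + x - x ^ 2) * hP + (2 - x - x ^ 3 + x ^ 5) * hp
  refine ⟨_, (mul_mem (mul_mem (mul_mem (mul_mem (mul_mem (mul_mem (mul_mem hv hu) hv) hv) hu) hv) hu) hv), ?_⟩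
  change act _ (P.co 1 0 0) = _ • P.co 1 0 0
  rw [act_mul, act_mul, act_mul, act_mul, act_mul, act_mul, act_mul, e0, e1, e2, e3, e4, e5, e6, e7, P.co_smul]
  simp only [mul_one, mul_zero]

end Cfsg.Agent.Small.Generation.SUThree
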