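import Mathlib

/-!
A Hermitian-symmetric polynomial sequence of degree `2 l` and the sesquilinear pairing of polynomials
it defines: the Gram data of a regular unipotent isometry.
-/

set_option autoImplicit false
set_option linter.unusedSectionVars false

namespace Cfsg.Agent.Small.Generation.SUThree

open Polynomial

variable {F : Type*} [Field F] [StarRing F]

/-- `k ↦ C(k + c, r)`. -/
def bz (c : ℤ) (r : ℕ) : ℤ → F := fun k => ((Ring.choose (k + c) r : ℤ) : F)

/-- The sequence. -/
def fs (z : ℕ → F) (l : ℕ) : ℤ → F := fun k =>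
  ∑ i ∈ Finset.range l, (z i * bz (i : ℤ) (2 * (i + 1)) k +
    star (z i) * bz ((i : ℤ) + 1) (2 * (i + 1)) k)

/-- The shift. -/
def sh : Module.End F (ℤ → F) where
  toFun g k := g (k + 1)
  map_add' _ _ := rfl
  map_smul' _ _ := rfl

/-- The backward shift. -/
def si : Module.End F (ℤ → F) where
  toFun g k := g (k - 1)
  map_add' _ _ := rfl
  map_smul' _ _ := rfl

theorem sh_si : (sh * si : Module.End F (ℤ → F)) = 1 := by
  refine LinearMap.ext fun g => funext fun k => ?_
  change g (k + 1 - 1) = g k
  rw [add_sub_cancel_right]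

theorem si_sh : (si * sh : Module.End F (ℤ → F)) = 1 := by
  refine LinearMap.ext fun g => funext fun k => ?_
  change g (k - 1 + 1) = g k
  rw [sub_add_cancel]

/-- The difference. -/
def dl : Module.End F (ℤ → F) := sh - 1

theorem delta_bz (c : ℤ) (r : ℕ) : dl (bz c (r + 1) : ℤ → F) = bz c r := by
  funext k
  change bz c (r + 1) (k + 1) - bz c (r + 1) k = (bz c r k : F)
  simp only [bz]
  rw [show k + 1 + c = k + c + 1 by ring, Ring.choose_succ_succ]
  push_cast
  ring

theorem delta_bz_zero (c : ℤ) : dl (bz c 0 : ℤ → F) = 0 := by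
  funext k
  change bz c 0 (k + 1) - bz c 0 k = (0 : F)
  simp [bz]

theorem delta_pow_bz (c : ℤ) : ∀ (m r : ℕ),
    (dl ^ m) (bz c r : ℤ → F) = if m ≤ r then bz c (r - m) else 0 := by
  intro m
  induction m with
  | zero => intro r; simp
  | succ m ih =>
    intro r
    rw [pow_succ', Module.End.mul_apply, ih]
    split_ifs with h1 h2 h2
    · obtain ⟨s, hs⟩ : ∃ s, r - m = s + 1 := ⟨r - m - 1, by omega⟩
      rw [hs, delta_bz, show r - (m + 1) = s by omega]
    · rw [show r - m = 0 by omega, delta_bz_zero]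
    · omega
    · rw [map_zero]

theorem fs_eq (z : ℕ → F) (l : ℕ) :
    fs z l = ∑ i ∈ Finset.range l, (z i • (bz (i : ℤ) (2 * (i + 1)) : ℤ → F) +
      star (z i) • bz ((i : ℤ) + 1) (2 * (i + 1))) := by
  funext k
  simp [fs, Finset.sum_apply]

/-- The leading difference is constant. -/
theorem delta_top (z : ℕ → F) {l : ℕ} (hl : 1 ≤ l) :
    ((dl : Module.End F (ℤ → F)) ^ (2 * l)) (fs z l) = fun _ => z (l - 1) + star (z (l - 1)) := by
  rw [fs_eq, map_sum, Finset.sum_eq_single (l - 1)]
  · rw [map_add, map_smul, map_smul, delta_pow_bz, delta_pow_bz, if_pos (by omega),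
      if_pos (by omega), show 2 * (l - 1 + 1) - 2 * l = 0 by omega]
    funext k
    simp [bz]
  · intro i hi hne
    rw [Finset.mem_range] at hi
    rw [map_add, map_smul, map_smul, delta_pow_bz, delta_pow_bz, if_neg (by omega),
      if_neg (by omega), smul_zero, smul_zero, add_zero]
  · intro h; exact absurd (Finset.mem_range.mpr (by omega)) h

theorem delta_kill (z : ℕ → F) {l : ℕ} (hl : 1 ≤ l) :
    ((dl : Module.End F (ℤ → F)) ^ (2 * l + 1)) (fs z l) = 0 := by
  rw [pow_succ', Module.End.mul_apply, delta_top z hl]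
  funext k
  change (z (l - 1) + star (z (l - 1))) - (z (l - 1) + star (z (l - 1))) = 0
  rw [sub_self]

theorem bz_neg (c : ℤ) (m : ℕ) (k : ℤ) :
    (bz c (2 * m) (-k) : F) = bz ((2 * m : ℕ) - c - 1) (2 * m) k := by
  simp only [bz]
  congr 1
  rw [show -k + c = -(k - c) by ring, Ring.choose_neg]
  rw [show Int.negOnePow ((2 * m : ℕ) : ℤ) = 1 from Int.negOnePow_even _ ⟨m, by push_cast; ring⟩,
    one_smul]
  congr 1
  ring

theorem star_bz (c : ℤ) (r : ℕ) (k : ℤ) : star (bz c r k : F) = bz c r k := by
  simp [bz]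

theorem fs_neg (z : ℕ → F) (l : ℕ) (k : ℤ) : fs z l (-k) = star (fs z l k) := by
  simp only [fs, star_sum, star_add, star_mul', star_star, star_bz]
  refine Finset.sum_congr rfl fun i _ => ?_
  rw [bz_neg, bz_neg,
    show (((2 * (i + 1) : ℕ) : ℤ)) - (i : ℤ) - 1 = (i : ℤ) + 1 by push_cast; ring,
    show (((2 * (i + 1) : ℕ) : ℤ)) - ((i : ℤ) + 1) - 1 = (i : ℤ) by push_cast; ring]
  ring

theorem fs_natCast (z : ℕ → F) (l k : ℕ) :
    fs z l (k : ℤ) = ∑ i ∈ Finset.range l, (z i * ((k + i).choose (2 * (i + 1)) : F) +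
      star (z i) * ((k + i + 1).choose (2 * (i + 1)) : F)) := by
  simp only [fs, bz]
  refine Finset.sum_congr rfl fun i _ => ?_
  rw [show (k : ℤ) + (i : ℤ) = ((k + i : ℕ) : ℤ) by push_cast; ring,
    show (k : ℤ) + ((i : ℤ) + 1) = ((k + i + 1 : ℕ) : ℤ) by push_cast; ring,
    Ring.choose_natCast, Ring.choose_natCast, Int.cast_natCast, Int.cast_natCast]

/-- Small values involve only the first parameters. -/
theorem fs_small (z : ℕ → F) {l k : ℕ} (hk : k ≤ l) : fs z l (k : ℤ) = fs z k (k : ℤ) := by
  rw [fs_natCast, fs_natCast]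
  refine (Finset.sum_subset (Finset.range_mono hk) fun i _ hi => ?_).symm
  rw [Finset.mem_range] at hi
  rw [Nat.choose_eq_zero_of_lt (show k + i < 2 * (i + 1) by omega),
    Nat.choose_eq_zero_of_lt (show k + i + 1 < 2 * (i + 1) by omega)]
  simp

theorem fs_zero (z : ℕ → F) (l : ℕ) : fs z l 0 = 0 := by
  have := fs_small z (l := l) (k := 0) (Nat.zero_le l)
  simpa [fs] using this

/-! ### The pairing -/

/-- `⟨R, P⟩ = Σ r̄ᵢ pⱼ f(j − i)`. -/
noncomputable def pr (f : ℤ → F) (R P : F[X]) : F :=
  aeval si (R.map (starRingEnd F)) (aeval sh P f) 0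

theorem pr_add_left (f : ℤ → F) (R R' P : F[X]) : pr f (R + R') P = pr f R P + pr f R' P := by
  simp [pr, Polynomial.map_add]

theorem pr_add_right (f : ℤ → F) (R P P' : F[X]) : pr f R (P + P') = pr f R P + pr f R P' := by
  simp [pr]

theorem pr_smul_right (f : ℤ → F) (c : F) (R P : F[X]) : pr f R (c • P) = c * pr f R P := by
  simp [pr]

theorem pr_mul_left_right (f : ℤ → F) (R A P : F[X]) :
    pr f R (A * P) = aeval si (R.map (starRingEnd F)) (aeval sh A (aeval sh P f)) 0 := by
  rw [pr, map_mul, Module.End.mul_apply]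

theorem si_pow_apply (g : ℤ → F) (i : ℕ) (k : ℤ) : (si ^ i) g k = g (k - i) := by
  induction i generalizing k with
  | zero => simp
  | succ i ih =>
    rw [pow_succ', Module.End.mul_apply]
    change (si ^ i) g (k - 1) = _
    rw [ih]
    push_cast
    ring_nf

theorem sh_pow_apply (g : ℤ → F) (i : ℕ) (k : ℤ) : (sh ^ i) g k = g (k + i) := by
  induction i generalizing k with
  | zero => simp
  | succ i ih =>
    rw [pow_succ', Module.End.mul_apply]
    change (sh ^ i) g (k + 1) = _
    rw [ih]
    push_cast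
    ring_nf

theorem pr_monomial (f : ℤ → F) (i j : ℕ) (a b : F) :
    pr f (monomial i a) (monomial j b) = star a * b * f ((j : ℤ) - i) := by
  simp only [pr, Polynomial.map_monomial, aeval_monomial, Module.algebraMap_end_apply,
    Module.End.mul_apply]
  rw [Pi.smul_apply, si_pow_apply, Pi.smul_apply, sh_pow_apply, smul_eq_mul, smul_eq_mul,
    zero_sub, neg_add_eq_sub, starRingEnd_apply, mul_assoc]

theorem pr_star {f : ℤ → F} (hf : ∀ k, f (-k) = star (f k)) (R P : F[X]) :
    star (pr f R P) = pr f P R := by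
  induction R using Polynomial.induction_on' with
  | add R R' h h' => rw [pr_add_left, star_add, h, h', ← pr_add_right]
  | monomial i a =>
    induction P using Polynomial.induction_on' with
    | add P P' h h' => rw [pr_add_right, star_add, h, h', ← pr_add_left]
    | monomial j b =>
      rw [pr_monomial, pr_monomial, star_mul', star_mul', star_star, ← hf,
        show -((j : ℤ) - i) = (i : ℤ) - j by ring]
      ring

theorem pr_X (f : ℤ → F) (R P : F[X]) : pr f (X * R) (X * P) = pr f R P := by
  have hc : Commute (si : Module.End F (ℤ → F)) sh := by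
    rw [Commute, SemiconjBy, si_sh, sh_si]
  simp only [pr, Polynomial.map_mul, Polynomial.map_X, map_mul, aeval_X, Module.End.mul_apply]
  have h1 : ∀ g : ℤ → F, aeval si (R.map (starRingEnd F)) (sh g) =
      sh (aeval si (R.map (starRingEnd F)) g) := by
    intro g
    rw [← Module.End.mul_apply, ← Module.End.mul_apply]
    refine LinearMap.congr_fun (Commute.eq ?_) g
    induction R.map (starRingEnd F) using Polynomial.induction_on' with
    | add A A' h h' => rw [map_add]; exact h.add_left h'
    | monomial i a =>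
      rw [aeval_monomial]
      exact (Algebra.commute_algebraMap_left a sh).mul_left (hc.pow_left i)
  rw [h1, ← Module.End.mul_apply si sh, si_sh, Module.End.one_apply]

theorem pr_annihil {f : ℤ → F} {Q : F[X]} (hQ : aeval sh Q f = 0) (R P : F[X]) :
    pr f R (Q * P) = 0 := by
  rw [pr, mul_comm Q P, map_mul, Module.End.mul_apply, hQ, map_zero, map_zero]
  rfl

end Cfsg.Agent.Small.Generation.SUThree
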